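import Cfsg.Agent.Lib.SuzRank51.DataP
import Cfsg.Agent.Lib.SuzRank51.DataQ
import Cfsg.Agent.Lib.CosetEnum.Suz1782.Data

/-!
Checks for the surviving class and for the identification of the two parabolics.
-/

set_option autoImplicit false
set_option maxRecDepth 100000
set_option maxHeartbeats 0
set_option Elab.async false

namespace Cfsg.Agent.Lib.SuzRank51

open Cfsg.Agent.Lib.CosetEnum

/-- a point step of the seven generators -/
noncomputable def genStep (S : PTree) (g p : ℕ) : ℕ :=
  if g = 6 then
    (if Case.swapStep S p < 1365 then pCase.loc (pCase.te pTg) (Case.swapStep S p) else Case.swapStep S p)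
  else (if p < 1365 then get32 pCase.T (p * 6 + g) else p)

/-- a word through the seven generator steps -/
noncomputable def genScan (S : PTree) (l : List ℕ) (p : ℕ) : ℕ := l.foldl (fun q g => genStep S g q) p

/-- the surviving class satisfies the relators -/
noncomputable def goodCheck (K : Cls) : Bool :=
  !(K.c == 5) || (K.sv && Suz1782.letters.RL.all fun l => (l.all fun g => g < 7) &&
    [1365, 0, 341, pCase.b].all fun p => genScan K.S l p == p)

theorem p_good : ∀ K ∈ pCase.cls, goodCheck K = true := by decide +kernel

theorem p_tg : pTg < 180 := by decide

/-- the neighbours of a point of the short orbit -/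
noncomputable def near (y z : ℕ) : Bool := decide (pCase.act (pBack.getD (y - 1) []) z < 21)

/-- lines through the base point -/
noncomputable def nearCheck : Bool :=
  allBelow 21 fun y => y == 0 || ((pBack.getD (y - 1) []).all fun g => g < 6) &&
    pCase.act (pBack.getD (y - 1) []) y == 0 && near y y &&
    ((List.range 21).filter fun z => near y z).length == 5 && near y 0 &&
    ((List.range 21).all fun z => z == 0 || !(near y z) || (List.range 21).all fun x => near z x == near y x)

/-- the five points of a line -/
noncomputable def lineAt (j : ℕ) : List ℕ := (List.range 5).map fun i => get32 qLines (5 * j + i)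

/-- the lines are permuted by the generators and the first one is the line of `1` through `0` -/
noncomputable def lineCheck : Bool :=
  ((List.range 21).all fun z => (z == 0 || near 1 z) == (lineAt 0).contains z) &&
  ((lineAt 0).all fun p => p < 21) && decide (lineAt 0).Nodup &&
  allBelow 1365 fun j => ((lineAt j).all fun p => p < 1365) &&
    (j == 0 || !((lineAt j).contains 0 && (lineAt j).contains 1)) &&
    allBelow 6 fun g => (lineAt j).all fun p =>
      (lineAt (get32 qCase.T (j * 6 + g))).contains (get32 pCase.T (p * 6 + g))

theorem near_ok : nearCheck = true := by decide +kernel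

theorem line_ok : lineCheck = true := by decide +kernel

end Cfsg.Agent.Lib.SuzRank51
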