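import Cfsg.Agent.Lib.SuzRank51.DataP

/-!
Checks of the certificate for one of the parabolics of `G2(4)`.
-/

set_option autoImplicit false
set_option maxRecDepth 100000
set_option maxHeartbeats 0
set_option Elab.async false

namespace Cfsg.Agent.Lib.SuzRank51

theorem p_table : pCase.tableCheck = true := by decide +kernel

theorem p_orbit : pCase.orbitCheck = true := by decide +kernel

theorem p_point : pCase.pointCheck = true := by decide +kernel

theorem p_mul : pCase.mulCheck = true := by decide +kernel

theorem p_rel : pCase.relCheck = true := by decide +kernel

theorem p_pair : pCase.pairCheck = true := by decide +kernel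

theorem p_third : ∀ K ∈ pCase.cls, pCase.thirdCheck K = true := by decide +kernel

theorem p_twist : ∀ K ∈ pCase.cls, pCase.twistCheck K = true := by decide +kernel

theorem p_bad : ∀ K ∈ pCase.cls, K.c = 5 ∨ pCase.badCheck K = true := by decide +kernel

end Cfsg.Agent.Lib.SuzRank51
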