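import Cfsg.Agent.Lib.SuzRank51.DataQ

/-!
Checks of the certificate for one of the parabolics of `G2(4)`.
-/

set_option autoImplicit false
set_option maxRecDepth 100000
set_option maxHeartbeats 0
set_option Elab.async false

namespace Cfsg.Agent.Lib.SuzRank51

theorem q_table : qCase.tableCheck = true := by decide +kernel

theorem q_orbit : qCase.orbitCheck = true := by decide +kernel

theorem q_point : qCase.pointCheck = true := by decide +kernel

theorem q_mul : qCase.mulCheck = true := by decide +kernel

theorem q_rel : qCase.relCheck = true := by decide +kernel

theorem q_pair : qCase.pairCheck = true := by decide +kernel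

theorem q_third : ∀ K ∈ qCase.cls, qCase.thirdCheck K = true := by decide +kernel

theorem q_twist : ∀ K ∈ qCase.cls, qCase.twistCheck K = true := by decide +kernel

theorem q_bad : ∀ K ∈ qCase.cls, qCase.badCheck K = true := by decide +kernel

end Cfsg.Agent.Lib.SuzRank51
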