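import Cfsg.Agent.Lib.SuzRank51.Group
import Cfsg.Agent.Lib.SuzRank51.CheckP
import Cfsg.Agent.Lib.SuzRank51.CheckQ
import Cfsg.Agent.Lib.SuzRank51.CheckGood

/-!
Subgroups of index 1365 of `G2(4)` are the conjugates of two: the stabiliser of a point and of a line.
Owner: helper51.
-/

set_option autoImplicit false
set_option maxRecDepth 20000

namespace Cfsg.Agent.Lib.SuzRank51

open Cfsg.Agent.Lib.CosetEnum

theorem p_checked : Checked pCase := ⟨p_table, p_orbit, p_point, p_mul, p_rel⟩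

theorem q_checked : Checked qCase := ⟨q_table, q_orbit, q_point, q_mul, q_rel⟩

theorem pow_two_dvd_of_dvd {o s : ℕ} {b : ℕ} (ho : ∃ j, o = 2 ^ j) (hb : 2 ^ b ∣ o * s) (hs : Odd s) : 2 ^ b ∣ o :=
  (Nat.Coprime.pow_left b (Nat.coprime_two_left.2 hs)).dvd_of_dvd_mul_right hb

/-- sums of orbit lengths of a 2-group inside the three orbits, constrained by the order -/
theorem small_orbit {n a b c : ℕ} (hn : n = 1 + 4 * a + 64 * b + 1024 * c) (h45 : n ∣ 45) (ha : 4 * a ≤ 20) :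
    b = 0 ∧ c = 0 ∧ (n = 1 ∨ n = 5 ∨ n = 9) := by
  have hle := Nat.le_of_dvd (by norm_num) h45
  have hb : b = 0 := by omega
  have hc : c = 0 := by omega
  refine ⟨hb, hc, ?_⟩
  have hn' : n ≤ 21 := by omega
  have h4 : n % 4 = 1 := by omega
  clear hn ha hb hc hle
  interval_cases n <;> revert h45 h4 <;> decide

variable {πP πQ : PG →* Equiv.Perm (Fin 1365)} (AP : Act pCase πP) (AQ : Act qCase πQ)

include AP AQ

theorem line_equiv (x : PG) : ∀ j : Fin 1365, ∀ p : Fin 1365, p.1 ∈ lineAt j.1 →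
    (πP x p).1 ∈ lineAt (πQ x j).1 := by
  have hl := line_ok
  simp only [lineCheck, Bool.and_eq_true, allBelow_iff, List.all_eq_true, List.contains_iff_mem,
    decide_eq_true_eq] at hl
  haveI := finite_PG
  have hx : x ∈ Submonoid.closure {x | ∃ g < 6, hel [g] = x} := by
    rw [← Subgroup.closure_toSubmonoid_of_finite]
    show x ∈ Subgroup.closure _
    have htop := Letters.gen_closure (S := SuzSub.pres) SuzSub.letters_col
    have : x ∈ (⊤ : Subgroup PG) := Subgroup.mem_top x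
    rw [← htop] at this
    refine (Subgroup.closure_le _).2 ?_ this
    rintro y ⟨g, hg, rfl⟩
    have : (SuzSub.letters.phi SuzSub.pres g)⁻¹ ∈ Subgroup.closure {x | ∃ g < 6, hel [g] = x} :=
      Subgroup.subset_closure ⟨g, hg, by simp [hel]⟩
    simpa using Subgroup.inv_mem _ this
  clear hl
  induction hx using Submonoid.closure_induction with
  | mem x hx =>
    obtain ⟨g, hg, rfl⟩ := hx
    intro j p hp
    rw [AP.hel_apply [g] (by simpa using hg), AQ.hel_apply [g] (by simpa using hg)]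
    have hl := line_ok
    simp only [lineCheck, Bool.and_eq_true, allBelow_iff, List.all_eq_true, List.contains_iff_mem,
      decide_eq_true_eq] at hl
    show force (get32 pCase.T (Nat.add (Nat.mul p.1 6) g)) (fun z => z) ∈
      lineAt (force (get32 qCase.T (Nat.add (Nat.mul j.1 6) g)) fun z => z)
    rw [force_eq, force_eq]
    exact (hl.2 j.1 j.2).2 g hg p.1 hp
  | one => intro j p hp; rw [map_one, map_one]; exact hp
  | mul x y _ _ hx hy =>
    intro j p hp
    rw [map_mul, map_mul, Equiv.Perm.mul_apply, Equiv.Perm.mul_apply]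
    exact hx _ _ (hy j p hp)

/-- the stabiliser of the first line -/
theorem setstab_line {x : PG} (hx : ∀ p : Fin 1365, p.1 ∈ lineAt 0 → (πP x p).1 ∈ lineAt 0) :
    πQ x 0 = 0 := by
  have hl := line_ok
  simp only [lineCheck, Bool.and_eq_true, allBelow_iff, List.all_eq_true, List.contains_iff_mem,
    decide_eq_true_eq, List.mem_range, beq_iff_eq, Bool.or_eq_true, Bool.not_eq_true', Bool.and_eq_false_iff] at hl
  obtain ⟨⟨⟨hz, h21⟩, hnd⟩, hall⟩ := hl
  -- the image of the first line is the first line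
  let e : Fin 1365 → Fin 1365 := πP x
  let L : Finset (Fin 1365) := Finset.univ.filter fun p => p.1 ∈ lineAt 0
  have hsub : L.image e ⊆ L := fun y hy => by
    obtain ⟨p, hp, rfl⟩ := Finset.mem_image.1 hy
    simp only [L, Finset.mem_filter, Finset.mem_univ, true_and] at hp ⊢
    exact hx p hp
  have heq : L.image e = L := Finset.eq_of_subset_of_card_le hsub
    (by rw [Finset.card_image_of_injective _ (πP x).injective])
  have h01 : ∀ m : Fin 1365, (m.1 = 0 ∨ m.1 = 1) → m.1 ∈ lineAt (πQ x 0).1 := fun m hm => by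
    have hm0 : m ∈ L := by
      simp only [L, Finset.mem_filter, Finset.mem_univ, true_and]
      have h1 : near 1 1 = true := by
        have hn := near_ok
        simp only [nearCheck, Bool.and_eq_true, allBelow_iff, Bool.or_eq_true, beq_iff_eq] at hn
        rcases hn 1 (by norm_num) with h | h
        · simp at h
        · exact h.1.1.1.2
      rcases hm with e | e <;> rw [e]
      · have := hz 0 (by norm_num)
        simpa using this
      · have := hz 1 (by norm_num)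
        simpa [h1] using this
    rw [← heq] at hm0
    obtain ⟨p, hp, rfl⟩ := Finset.mem_image.1 hm0
    simp only [L, Finset.mem_filter, Finset.mem_univ, true_and] at hp
    exact line_equiv AP AQ x 0 p hp
  rcases (hall (πQ x 0).1 (Fin.is_lt _)).1.2 with h | h
  · exact Fin.ext h
  · exfalso
    have a0 := h01 0 (Or.inl rfl)
    have a1 := h01 ⟨1, by norm_num⟩ (Or.inr rfl)
    rcases h with h | h
    · exact (Bool.eq_false_iff.1 h) (List.contains_iff_mem.2 a0)
    · exact (Bool.eq_false_iff.1 h) (List.contains_iff_mem.2 a1)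

/-- a subgroup of index 1365 fixes a point or a line -/
theorem exists_conj_stab {X : Subgroup PG} (hX : X.index = 1365) :
    ∃ g : PG, X.map (MulAut.conj g).toMonoidHom = pstab πP 0 ∨
      X.map (MulAut.conj g).toMonoidHom = pstab πQ 0 := by
  haveI := finite_PG
  have hcX : Nat.card X = 184320 := by
    have := X.card_mul_index
    rw [hX, card_PG] at this
    omega
  haveI : Fact (Nat.Prime 2) := ⟨Nat.prime_two⟩
  obtain ⟨S, hS⟩ := Sylow.exists_subgroup_card_pow_prime (G := X) 2 (n := 12) (by rw [hcX]; norm_num)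
  let S0 : Subgroup PG := S.map X.subtype
  have hS0 : Nat.card S0 = 2 ^ 12 := by
    rw [Subgroup.card_map_of_injective Subtype.val_injective, hS]
  -- a fixed point
  obtain ⟨p, hp⟩ : ∃ p : Fin 1365, ∀ y ∈ S0, πP y p = p := by
    letI : MulAction S0 (Fin 1365) := MulAction.compHom (Fin 1365) (πP.comp S0.subtype)
    have h2 := (IsPGroup.of_card hS0).card_modEq_card_fixedPoints (α := Fin 1365)
    rw [Nat.card_fin] at h2
    have hne : (MulAction.fixedPoints S0 (Fin 1365)).Nonempty := by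
      rw [Set.nonempty_iff_ne_empty]
      intro he
      rw [he] at h2
      simp [Nat.ModEq] at h2
    obtain ⟨p, hp⟩ := hne
    exact ⟨p, fun y hy => hp ⟨y, hy⟩⟩
  obtain ⟨g, hg⟩ := AP.transitive p
  let Y := X.map (MulAut.conj g⁻¹).toMonoidHom
  let T := S0.map (MulAut.conj g⁻¹).toMonoidHom
  have hY : Nat.card Y = 184320 := by
    rw [Subgroup.card_map_of_injective (MulAut.conj g⁻¹).injective, hcX]
  have hT : Nat.card T = 2 ^ 12 := by
    rw [Subgroup.card_map_of_injective (MulAut.conj g⁻¹).injective, hS0]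
  have hTY : T ≤ Y := Subgroup.map_mono (Subgroup.map_subtype_le S)
  have hT0 : T ≤ pstab πP 0 := by
    rintro _ ⟨y, hy, rfl⟩
    show πP (g⁻¹ * y * (g⁻¹)⁻¹) 0 = 0
    rw [inv_inv, map_mul, map_mul, Equiv.Perm.mul_apply, Equiv.Perm.mul_apply, hg, hp y hy, map_inv,
      Equiv.Perm.inv_def, Equiv.symm_apply_eq, hg]
  -- orbit lengths
  have hdiv : ∀ (K : Subgroup PG) (y : Fin 1365), {z | ∃ k ∈ K, πP k y = z}.ncard ∣ Nat.card K :=
    fun K y => Dvd.intro_left _ (card_inf_mul_orbit πP K y)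
  have horbT : ∀ (lo hi b : ℕ), (∀ y : Fin 1365, lo ≤ y.1 → y.1 < hi →
        2 ^ b ∣ {z | ∃ k ∈ pstab πP 0, πP k y = z}.ncard) →
      ∀ y : Fin 1365, lo ≤ y.1 → y.1 < hi → 2 ^ b ∣ {z | ∃ k ∈ T, πP k y = z}.ncard := by
    intro lo hi b hP y h1 h2
    have hd : {z | ∃ k ∈ T, πP k y = z}.ncard ∣ 2 ^ 12 := hT ▸ hdiv T y
    obtain ⟨j, -, hj⟩ := (Nat.dvd_prime_pow Nat.prime_two).1 hd
    have e1 := card_inf_mul_orbit πP T y
    have e2 := card_inf_mul_orbit πP (pstab πP 0) y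
    have hle : Nat.card (T ⊓ pstab πP y : Subgroup PG) ∣ Nat.card (pstab πP 0 ⊓ pstab πP y : Subgroup PG) :=
      Subgroup.card_dvd_of_le (inf_le_inf_right _ hT0)
    obtain ⟨m, hm⟩ := hle
    rw [hm, AP.card_stab] at e2
    rw [hT] at e1
    refine pow_two_dvd_of_dvd (s := 45) ⟨j, hj⟩ ?_ (by decide)
    have hpos : 0 < Nat.card (T ⊓ pstab πP y : Subgroup PG) := Nat.card_pos
    have : Nat.card (T ⊓ pstab πP y : Subgroup PG) * (m * {z | ∃ k ∈ pstab πP 0, πP k y = z}.ncard) =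
        Nat.card (T ⊓ pstab πP y : Subgroup PG) * ({z | ∃ k ∈ T, πP k y = z}.ncard * 45) := by
      rw [← mul_assoc, e2, ← mul_assoc, e1]; norm_num
    rw [← Nat.eq_of_mul_eq_mul_left hpos this]
    exact (hP y h1 h2).mul_left m
  have hzone : ∀ (k : PG), k ∈ pstab πP 0 → ∀ y, Case.zone (πP k y).1 = Case.zone y.1 := fun k hk y =>
    AP.zone_W (by rw [AP.W_stab.1]; exact hk) y
  have horbP : ∀ lo hi : ℕ, (lo = 1 ∧ hi = 21 ∨ lo = 21 ∧ hi = 341 ∨ lo = 341 ∧ hi = 1365) →
      ∀ y : Fin 1365, lo ≤ y.1 → y.1 < hi → {z | ∃ k ∈ pstab πP 0, πP k y = z}.ncard = hi - lo := by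
    intro lo hi hcase y h1 h2
    rw [show hi - lo = Nat.card (Fin (hi - lo)) by simp]
    have hhi : hi ≤ 1365 := by omega
    let f : Fin (hi - lo) → Fin 1365 := fun i => ⟨lo + i.1, by have := i.2; omega⟩
    rw [show {z | ∃ k ∈ pstab πP 0, πP k y = z} = Set.range f from ?_,
      Set.ncard_range_of_injective (fun a b h => Fin.ext (by simpa [f] using h))]
    have hzy : ∀ z : Fin 1365, Case.zone z.1 = Case.zone y.1 ↔ lo ≤ z.1 ∧ z.1 < hi := fun z => by
      simp only [Case.zone]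
      rcases hcase with ⟨rfl, rfl⟩ | ⟨rfl, rfl⟩ | ⟨rfl, rfl⟩ <;> split_ifs <;> constructor <;> intro h <;> first | omega | exact h.elim
    ext z
    constructor
    · rintro ⟨k, hk, rfl⟩
      obtain ⟨a, b⟩ := (hzy _).1 (hzone k hk y)
      exact ⟨⟨(πP k y).1 - lo, by omega⟩, Fin.ext (by show lo + ((πP k y).1 - lo) = _; omega)⟩
    · rintro ⟨i, rfl⟩
      have hiz := (hzy (f i)).2 ⟨Nat.le_add_right _ _, by show lo + i.1 < hi; have := i.2; omega⟩
      obtain ⟨k, hk, r, hr, hzr, hkr⟩ := AP.reach y (by omega)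
      obtain ⟨k', hk', r', hr', hzr', hkr'⟩ := AP.reach (f i) (by show lo + i.1 ≠ 0; omega)
      have hrr : r = r' := Fin.ext (by
        have a1 := (hzy r).1 hzr
        have a2 := (hzy r').1 (hzr'.trans hiz)
        omega)
      refine ⟨k' * k⁻¹, AP.W_le (mul_mem hk' (inv_mem hk)), ?_⟩
      rw [map_mul, Equiv.Perm.mul_apply, map_inv, Equiv.Perm.inv_def,
        show (πP k).symm y = r from (Equiv.symm_apply_eq _).2 hkr.symm, hrr, hkr']
  let O : Set (Fin 1365) := {z | ∃ k ∈ Y, πP k 0 = z}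
  have hO45 : O.ncard ∣ 45 := by
    have h1 := card_inf_mul_orbit πP Y 0
    obtain ⟨m, hm⟩ : Nat.card T ∣ Nat.card (Y ⊓ pstab πP 0 : Subgroup PG) :=
      Subgroup.card_dvd_of_le (le_inf hTY hT0)
    rw [hm, hT, hY, mul_assoc, show (184320 : ℕ) = 2 ^ 12 * 45 by norm_num] at h1
    exact ⟨m, by rw [← Nat.eq_of_mul_eq_mul_left (by norm_num) h1, mul_comm]⟩
  have hTO : ∀ k ∈ T, ∀ z ∈ O, πP k z ∈ O := by
    rintro k hk _ ⟨y, hy, rfl⟩
    exact ⟨k * y, mul_mem (hTY hk) hy, by rw [map_mul, Equiv.Perm.mul_apply]⟩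
  have hcount : ∀ lo hi b : ℕ, (lo = 1 ∧ hi = 21 ∨ lo = 21 ∧ hi = 341 ∨ lo = 341 ∧ hi = 1365) →
      2 ^ b ∣ hi - lo → 2 ^ b ∣ {z ∈ O | lo ≤ z.1 ∧ z.1 < hi}.ncard := by
    intro lo hi b hcase hb
    letI : MulAction T (Fin 1365) := MulAction.compHom (Fin 1365) (πP.comp T.subtype)
    let U : Set (Fin 1365) := {z ∈ O | lo ≤ z.1 ∧ z.1 < hi}
    have hU : ∀ k : T, ∀ z ∈ U, k • z ∈ U := by
      rintro k z ⟨hz, h1, h2⟩
      refine ⟨hTO k.1 k.2 z hz, ?_⟩
      have e : Case.zone (πP k.1 z).1 = Case.zone z.1 := hzone k.1 (hT0 k.2) z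
      show lo ≤ (πP k.1 z).1 ∧ (πP k.1 z).1 < hi
      simp only [Case.zone] at e
      rcases hcase with ⟨rfl, rfl⟩ | ⟨rfl, rfl⟩ | ⟨rfl, rfl⟩ <;> split_ifs at e <;> omega
    letI : MulAction T U :=
      { smul := fun k z => ⟨k • z.1, hU k z.1 z.2⟩
        one_smul := fun z => Subtype.ext (one_smul T z.1)
        mul_smul := fun k k' z => Subtype.ext (mul_smul k k' z.1) }
    show 2 ^ b ∣ U.ncard
    haveI : Fintype (MulAction.orbitRel.Quotient T U) := Fintype.ofFinite _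
    rw [← Nat.card_coe_set_eq, Nat.card_congr (MulAction.selfEquivSigmaOrbits T U), Nat.card_sigma]
    refine Finset.dvd_sum fun ω _ => ?_
    rw [show Nat.card (MulAction.orbit T ω.out) = {z | ∃ k ∈ T, πP k (ω.out).1 = z}.ncard from ?_]
    · exact horbT lo hi b (fun y h1 h2 => by rw [horbP lo hi hcase y h1 h2]; exact hb) _ ω.out.2.2.1 ω.out.2.2.2
    · rw [Nat.card_coe_set_eq, ← Set.ncard_image_of_injective _ Subtype.val_injective]
      congr 1
      ext z
      constructor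
      · rintro ⟨_, ⟨k, rfl⟩, rfl⟩
        exact ⟨k.1, k.2, rfl⟩
      · rintro ⟨k, hk, rfl⟩
        exact ⟨_, ⟨⟨k, hk⟩, rfl⟩, rfl⟩
  -- split the orbit
  let U1 : Set (Fin 1365) := {z ∈ O | 1 ≤ z.1 ∧ z.1 < 21}
  let U2 : Set (Fin 1365) := {z ∈ O | 21 ≤ z.1 ∧ z.1 < 341}
  let U3 : Set (Fin 1365) := {z ∈ O | 341 ≤ z.1 ∧ z.1 < 1365}
  obtain ⟨a, ha⟩ : 4 ∣ U1.ncard := hcount 1 21 2 (Or.inl ⟨rfl, rfl⟩) (by norm_num)
  obtain ⟨b, hb⟩ : 64 ∣ U2.ncard := hcount 21 341 6 (Or.inr (Or.inl ⟨rfl, rfl⟩)) (by norm_num)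
  obtain ⟨c, hc⟩ : 1024 ∣ U3.ncard := hcount 341 1365 10 (Or.inr (Or.inr ⟨rfl, rfl⟩)) (by norm_num)
  have h0O : (0 : Fin 1365) ∈ O := ⟨1, one_mem _, by rw [map_one]; rfl⟩
  have hOdec : O.ncard = 1 + U1.ncard + U2.ncard + U3.ncard := by
    have : O = (({0} ∪ U1) ∪ U2) ∪ U3 := by
      ext z
      simp only [Set.mem_union, Set.mem_singleton_iff]
      constructor
      · intro hz
        have h3 : z.1 < 1365 := z.2
        by_cases h1 : z.1 < 1
        · exact Or.inl (Or.inl (Or.inl (Fin.ext (by show z.1 = 0; omega))))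
        by_cases h2 : z.1 < 21
        · exact Or.inl (Or.inl (Or.inr ⟨hz, by omega, h2⟩))
        by_cases h4 : z.1 < 341
        · exact Or.inl (Or.inr ⟨hz, by omega, h4⟩)
        · exact Or.inr ⟨hz, by omega, h3⟩
      · rintro (((rfl | h) | h) | h)
        exacts [h0O, h.1, h.1, h.1]
    rw [this, Set.ncard_union_eq, Set.ncard_union_eq, Set.ncard_union_eq, Set.ncard_singleton]
    · rw [Set.disjoint_left]; rintro z rfl ⟨-, h, -⟩; simp at h
    · rw [Set.disjoint_left]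
      rintro z (rfl | ⟨-, -, h⟩) ⟨-, h', -⟩
      · simp at h'
      · omega
    · rw [Set.disjoint_left]
      rintro z ((rfl | ⟨-, -, h⟩) | ⟨-, -, h⟩) ⟨-, h', -⟩
      · simp at h'
      · omega
      · omega
  have ha20 : U1.ncard ≤ 20 := by
    refine le_trans (Set.ncard_le_ncard (t := Set.range fun i : Fin 20 => (⟨i.1 + 1, by omega⟩ : Fin 1365)) ?_) ?_
    · rintro z ⟨-, h1, h2⟩
      exact ⟨⟨z.1 - 1, by omega⟩, Fin.ext (by show z.1 - 1 + 1 = z.1; omega)⟩
    · rw [← Set.image_univ]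
      exact le_trans (Set.ncard_image_le (Set.toFinite _)) (by simp [Set.ncard_univ])
  obtain ⟨hb0, hc0, hn⟩ := small_orbit (a := a) (b := b) (c := c) (n := O.ncard)
    (by rw [hOdec, ha, hb, hc]) hO45 (ha ▸ ha20)
  have hOsmall : ∀ z ∈ O, z.1 < 21 := by
    intro z hz
    by_contra hlt
    have e2 : U2 = ∅ := (Set.ncard_eq_zero (Set.toFinite _)).1 (by rw [hb, hb0, mul_zero])
    have e3 : U3 = ∅ := (Set.ncard_eq_zero (Set.toFinite _)).1 (by rw [hc, hc0, mul_zero])
    rcases lt_or_ge z.1 341 with h | h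
    · exact (e2 ▸ (show z ∈ U2 from ⟨hz, by omega, h⟩) : z ∈ (∅ : Set (Fin 1365)))
    · exact (e3 ▸ (show z ∈ U3 from ⟨hz, h, z.2⟩) : z ∈ (∅ : Set (Fin 1365)))
  rcases eq_or_ne O.ncard 1 with h1 | h1
  · refine ⟨g⁻¹, Or.inl (Subgroup.eq_of_le_of_card_ge (fun y hy => ?_) (by rw [AP.card_stab]; exact hY.ge))⟩
    obtain ⟨w, hw⟩ := Set.ncard_eq_one.1 h1
    have hyO : πP y 0 ∈ O := ⟨y, hy, rfl⟩
    rw [hw] at h0O hyO
    exact mem_pstab.2 (hyO.trans h0O.symm)
  -- the orbit is a line through the base point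
  have hnear := near_ok
  simp only [nearCheck, Bool.and_eq_true, allBelow_iff, Bool.or_eq_true, beq_iff_eq, List.all_eq_true,
    List.mem_range, Bool.not_eq_true', decide_eq_true_eq] at hnear
  have hcone : ∀ y ∈ O, y.1 ≠ 0 → ∀ z ∈ O, near y.1 z.1 = true := by
    intro y hy hy0 z hz
    obtain ⟨⟨⟨⟨⟨hlt, hback⟩, -⟩, -⟩, -⟩, -⟩ := (hnear y.1 (hOsmall y hy)).resolve_left hy0
    obtain ⟨v, hv, hvy⟩ := hy
    obtain ⟨w, hw, hwz⟩ := hz
    have hmem : πP (hel (pBack.getD (y.1 - 1) []) * v) 0 = 0 := by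
      rw [map_mul, Equiv.Perm.mul_apply, hvy]
      exact Fin.ext (by rw [AP.hel_apply _ hlt]; exact hback)
    have hsm := hOsmall _ (⟨v⁻¹ * w, mul_mem (inv_mem hv) hw, rfl⟩ : πP (v⁻¹ * w) 0 ∈ O)
    have hzn := hzone _ hmem (πP (v⁻¹ * w) 0)
    rw [← Equiv.Perm.mul_apply, ← map_mul, mul_assoc, mul_inv_cancel_left, map_mul, Equiv.Perm.mul_apply,
      hwz, AP.hel_apply _ hlt] at hzn
    simp only [near, decide_eq_true_eq]
    generalize pCase.act (pBack.getD (y.1 - 1) []) z.1 = m at hzn ⊢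
    simp only [Case.zone] at hzn
    split_ifs at hzn <;> omega
  obtain ⟨y0, hy0O, hy00⟩ : ∃ y ∈ O, y.1 ≠ 0 := by
    by_contra hall
    push Not at hall
    refine h1 (le_antisymm ?_ (Set.ncard_pos (Set.toFinite _) |>.2 ⟨0, h0O⟩))
    calc O.ncard ≤ ({0} : Set (Fin 1365)).ncard := Set.ncard_le_ncard fun z hz => Fin.ext (hall z hz)
      _ = 1 := Set.ncard_singleton _
  have hsubN : O ⊆ {z | z.1 < 21 ∧ near y0.1 z.1 = true} := fun z hz => ⟨hOsmall z hz, hcone y0 hy0O hy00 z hz⟩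
  obtain ⟨⟨⟨hlt0, hfive⟩, hnear0⟩, hclos⟩ :
      ((((∀ g ∈ pBack.getD (y0.1 - 1) [], g < 6) ∧ pCase.act (pBack.getD (y0.1 - 1) []) y0.1 = 0 ∧
        near y0.1 y0.1 = true) ∧ ((List.range 21).filter fun z => near y0.1 z).length = 5) ∧ near y0.1 0 = true) ∧
      ∀ z < 21, (z = 0 ∨ near y0.1 z = false) ∨ ∀ x < 21, near z x = near y0.1 x := by
    obtain ⟨⟨⟨⟨⟨a1, a2⟩, a3⟩, a4⟩, a5⟩, a6⟩ := (hnear y0.1 (hOsmall y0 hy0O)).resolve_left hy00
    exact ⟨⟨⟨⟨a1, a2, a3⟩, a4⟩, a5⟩, a6⟩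
  have hNcard : {z : Fin 1365 | z.1 < 21 ∧ near y0.1 z.1 = true}.ncard = 5 := by
    rw [← hfive, ← List.toFinset_card_of_nodup (List.Nodup.filter _ List.nodup_range),
      ← Set.ncard_coe_finset, ← Set.ncard_image_of_injective _ Fin.val_injective]
    congr 1
    ext m
    simp only [Set.mem_image, Set.mem_setOf_eq, Finset.coe_sort_coe, List.coe_toFinset, List.mem_filter,
      List.mem_range]
    constructor
    · rintro ⟨z, hz, rfl⟩; exact hz
    · intro hm; exact ⟨⟨m, by omega⟩, hm, rfl⟩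
  have h5 : 5 ≤ O.ncard := by rcases hn with h | h | h <;> omega
  have hON : O = {z | z.1 < 21 ∧ near y0.1 z.1 = true} :=
    Set.eq_of_subset_of_ncard_le hsubN (by rw [hNcard]; exact h5)
  -- move the line to the first one
  obtain ⟨k, hk, r, hr, hzr, hkr⟩ := AP.reach y0 hy00
  have hr1 : r.1 = 1 := by
    have := hOsmall y0 hy0O
    simp only [Case.zone, hy00, this, if_true, if_false] at hzr
    rcases hr with e | e | e
    · exact e
    · simp [e] at hzr
    · simp [e] at hzr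
  refine ⟨k⁻¹ * g⁻¹, Or.inr ?_⟩
  have hYk : X.map (MulAut.conj (k⁻¹ * g⁻¹)).toMonoidHom = Y.map (MulAut.conj k⁻¹).toMonoidHom := by
    show _ = (X.map _).map _
    rw [Subgroup.map_map]
    congr 1
    ext x
    simp [mul_assoc]
  rw [hYk]
  refine Subgroup.eq_of_le_of_card_ge ?_ (by
    rw [AQ.card_stab, Subgroup.card_map_of_injective (MulAut.conj k⁻¹).injective, hY])
  rintro _ ⟨x, hx, rfl⟩
  refine mem_pstab.2 (setstab_line AP AQ fun p hp => ?_)
  have hl := line_ok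
  simp only [lineCheck, Bool.and_eq_true, allBelow_iff, List.all_eq_true, decide_eq_true_eq, List.mem_range] at hl
  obtain ⟨⟨⟨hz, h21⟩, -⟩, -⟩ := hl
  have hiff : ∀ m : ℕ, m < 21 → (m ∈ lineAt 0 ↔ m = 0 ∨ near 1 m = true) := fun m hm => by
    have := hz m hm
    simp only [beq_iff_eq] at this
    rw [← List.contains_iff_mem, ← this, Bool.or_eq_true, beq_iff_eq]
  have hkinv : k⁻¹ ∈ pstab πP 0 := inv_mem (AP.W_le hk)
  -- membership in the orbit is transported to the first line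
  have hclass : ∀ z : Fin 1365, z.1 < 21 → (πP k z ∈ O ↔ z.1 ∈ lineAt 0) := by
    intro z hz21
    rw [hiff z.1 hz21, hON]
    have hzk : (πP k z).1 < 21 := by
      have e := hzone k (AP.W_le hk) z
      generalize (πP k z).1 = m at e ⊢
      simp only [Case.zone, hz21] at e
      split_ifs at e <;> omega
    obtain ⟨⟨⟨⟨⟨hl1, hb1⟩, -⟩, -⟩, -⟩, -⟩ := (hnear 1 (by norm_num)).resolve_left (by norm_num)
    obtain ⟨hl0, hb0, -⟩ := hlt0
    have hm0 : πP (hel (pBack.getD (y0.1 - 1) []) * k * (hel (pBack.getD (1 - 1) []))⁻¹) 0 = 0 := by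
      have e1 : πP (hel (pBack.getD (1 - 1) [])) r = 0 := Fin.ext (by rw [AP.hel_apply _ hl1, hr1]; exact hb1)
      rw [map_mul, map_mul, Equiv.Perm.mul_apply, Equiv.Perm.mul_apply, map_inv, Equiv.Perm.inv_def,
        show (πP (hel (pBack.getD (1 - 1) []))).symm 0 = r from (Equiv.symm_apply_eq _).2 e1.symm, hkr]
      exact Fin.ext (by rw [AP.hel_apply _ hl0]; exact hb0)
    have e := hzone _ hm0 (πP (hel (pBack.getD (1 - 1) [])) z)
    rw [← Equiv.Perm.mul_apply, ← map_mul, inv_mul_cancel_right, map_mul, Equiv.Perm.mul_apply,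
      AP.hel_apply _ hl0, AP.hel_apply _ hl1] at e
    have hcases : near y0.1 (πP k z).1 = near 1 z.1 := by
      simp only [near]
      rw [decide_eq_decide]
      generalize pCase.act (pBack.getD (y0.1 - 1) []) (πP k z).1 = m at e ⊢
      generalize pCase.act (pBack.getD (1 - 1) []) z.1 = n at e ⊢
      simp only [Case.zone] at e
      split_ifs at e <;> omega
    show ((πP k z).1 < 21 ∧ near y0.1 (πP k z).1 = true) ↔ _
    rw [hcases]
    constructor
    · exact fun h => Or.inr h.2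
    · rintro (h | h)
      · have : z = 0 := Fin.ext h
        subst this
        refine ⟨hzk, ?_⟩
        rw [← hcases, mem_pstab.1 (AP.W_le hk)]
        exact hnear0
      · exact ⟨hzk, h⟩
  have hp21 : p.1 < 21 := h21 p.1 hp
  have hpO := (hclass p hp21).2 hp
  have hxO : πP x (πP k p) ∈ O := by
    obtain ⟨v, hv, hve⟩ := hpO
    exact ⟨x * v, mul_mem hx hv, by rw [map_mul, Equiv.Perm.mul_apply, hve]⟩
  show (πP (k⁻¹ * x * (k⁻¹)⁻¹) p).1 ∈ lineAt 0
  rw [inv_inv, map_mul, map_mul, Equiv.Perm.mul_apply, Equiv.Perm.mul_apply]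
  have hsm : (πP k⁻¹ (πP x (πP k p))).1 < 21 := by
    have e := hzone _ hkinv (πP x (πP k p))
    have := hOsmall _ hxO
    generalize (πP k⁻¹ (πP x (πP k p))).1 = m at e ⊢
    simp only [Case.zone, this] at e
    split_ifs at e <;> omega
  refine (hclass _ hsm).1 ?_
  rw [map_inv, Equiv.Perm.inv_def, Equiv.apply_symm_apply]
  exact hxO

end Cfsg.Agent.Lib.SuzRank51
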