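import Cfsg.Agent.Lib.SuzRank51.Model
import Cfsg.Agent.Lib.CosetEnum.G24Rep.Hom
import Cfsg.Agent.Lib.G24.Spectrum

/-!
What the certificate of one action of `G2(4)` on 1365 points says about the group.  Owner: helper51.
-/

set_option autoImplicit false
set_option maxRecDepth 20000

namespace Cfsg.Agent.Lib.SuzRank51

open Cfsg.Agent.Lib.CosetEnum

theorem card_PG : Nat.card PG = 251596800 := by
  obtain ⟨e⟩ := G24Rep.nonempty_iso
  exact (Nat.card_congr e.toEquiv).trans G24.card_G6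

theorem finite_PG : Finite PG := Nat.finite_of_card_ne_zero (by rw [card_PG]; norm_num)

/-- the stabiliser of a point through a homomorphism to permutations -/
def pstab {Y : Type*} [Group Y] {n : ℕ} (π : Y →* Equiv.Perm (Fin n)) (x : Fin n) : Subgroup Y :=
  (MulAction.stabilizer (Equiv.Perm (Fin n)) x).comap π

theorem mem_pstab {Y : Type*} [Group Y] {n : ℕ} {π : Y →* Equiv.Perm (Fin n)} {x : Fin n} {y : Y} :
    y ∈ pstab π x ↔ π y x = x := Iff.rfl

/-- orbit and stabiliser inside a subgroup -/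
theorem card_inf_mul_orbit {Y : Type*} [Group Y] {n : ℕ} (π : Y →* Equiv.Perm (Fin n)) (K : Subgroup Y)
    (x : Fin n) :
    Nat.card (K ⊓ pstab π x : Subgroup Y) * {y | ∃ k ∈ K, π k x = y}.ncard = Nat.card K := by
  letI : MulAction K (Fin n) := MulAction.compHom (Fin n) (π.comp K.subtype)
  have ho : MulAction.orbit K x = {y | ∃ k ∈ K, π k x = y} := by
    ext y
    exact ⟨fun ⟨m, hm⟩ => ⟨m.1, m.2, hm⟩, fun ⟨m, hm, hy⟩ => ⟨⟨m, hm⟩, hy⟩⟩
  have h1 := (MulAction.stabilizer K x).card_mul_index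
  rw [MulAction.index_stabilizer, ho] at h1
  refine Eq.trans ?_ h1
  congr 1
  refine Nat.card_congr ⟨fun z => ⟨⟨z.1, z.2.1⟩, z.2.2⟩, fun z => ⟨z.1.1, z.1.2, z.2⟩, fun z => rfl, fun z => rfl⟩

/-- the checks common to both actions -/
structure Checked (C : Case) : Prop where
  table : C.tableCheck = true
  orbit : C.orbitCheck = true
  point : C.pointCheck = true
  mul : C.mulCheck = true
  rel : C.relCheck = true

/-- a table action -/
structure Act (C : Case) (π : PG →* Equiv.Perm (Fin 1365)) : Prop where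
  ok : Checked C
  spec : ∀ g < 6, ∀ i : Fin 1365, ((π (SuzSub.letters.phi SuzSub.pres g))⁻¹ i).1 = get32 C.T (i.1 * 6 + g)

theorem Checked.exists_act {C : Case} (h : Checked C) : ∃ π, Act C π := by
  have ht := h.table
  simp only [Case.tableCheck, Bool.and_eq_true] at ht
  have hT : TableOK SuzSub.letters 1365 C.T :=
    { col := SuzSub.letters_col
      symcol := by
        intro g hg
        left
        have hg' : g < 6 := hg
        interval_cases g <;> exact ⟨by decide +kernel, by decide +kernel⟩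
      invol := by decide +kernel
      perm := ht.1
      rel := fun l hl i hi => relsOK_rel ht.2 hi hl }
  obtain ⟨π, hπ⟩ := exists_tableHom SuzSub.letters SuzSub.pres
    ⟨SuzSub.rels_mem, fun ψ h r hr => h r hr⟩ SuzSub.letters_ok hT
  exact ⟨π, h, hπ⟩

namespace Act

variable {C : Case} {π : PG →* Equiv.Perm (Fin 1365)} (A : Act C π)
include A

theorem hel_apply (w : List ℕ) (hw : ∀ g ∈ w, g < 6) (i : Fin 1365) : (π (hel w) i).1 = C.act w i := by
  rw [hel, map_inv]
  exact scan_of_table π _ A.spec w hw i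

theorem act_lt (w : List ℕ) (hw : ∀ g ∈ w, g < 6) {i : ℕ} (hi : i < 1365) : C.act w i < 1365 := by
  rw [← A.hel_apply w hw ⟨i, hi⟩]; exact Fin.is_lt _

theorem words_spec : (∀ w ∈ C.words, ∀ g ∈ w, g < 6) ∧ C.words.length = 3 ∧
    ∀ i < 1365, ∀ k < 3, get32 C.Y (i * 3 + k) = C.act (C.words.getD k []) i ∧
      Case.zone (get32 C.Y (i * 3 + k)) = Case.zone i := by
  have h := A.ok.orbit
  simp only [Case.orbitCheck, Bool.and_eq_true, allBelow_iff, List.all_eq_true, decide_eq_true_eq,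
    beq_iff_eq] at h
  exact ⟨fun w hw g hg => h.1.1.1.1.1.1.1.1.1.1 w hw g hg, h.1.1.1.1.1.1.1.1.1.2, fun i hi k hk =>
    h.1.1.1.1.1.1.1.1.2 i hi k hk⟩

theorem roots_spec : (∀ g ∈ C.root1, g < 6) ∧ (∀ g ∈ C.root21, g < 6) ∧ (∀ g ∈ C.hw, g < 6) ∧
    C.act C.root1 0 = 1 ∧ C.act C.root21 0 = 21 ∧ C.act C.hw 0 = 341 ∧ C.act C.hw 341 = 0 := by
  have h := A.ok.orbit
  simp only [Case.orbitCheck, Bool.and_eq_true, allBelow_iff, List.all_eq_true, decide_eq_true_eq,
    beq_iff_eq] at h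
  exact ⟨fun g hg => h.1.1.1.1.1.1.2 g hg, fun g hg => h.1.1.1.1.1.2 g hg, fun g hg => h.1.1.1.1.2 g hg,
    h.1.1.1.2, h.1.1.2, h.1.2, h.2⟩

theorem parent_spec {i : ℕ} (hi : i < 1365) (h0 : i ≠ 0) (h1 : i ≠ 1) (h21 : i ≠ 21) (h341 : i ≠ 341) :
    ∃ j < i, ∃ k < 3, get32 C.Y (j * 3 + k) = i ∧ Case.zone j = Case.zone i := by
  have h := A.ok.orbit
  simp only [Case.orbitCheck, Bool.and_eq_true, allBelow_iff, List.all_eq_true, decide_eq_true_eq,
    beq_iff_eq, Bool.or_eq_true] at h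
  rcases h.1.1.1.1.1.1.1.2 i hi with (((e | e) | e) | e) | e
  all_goals first | exact absurd e ‹_› | skip
  exact ⟨_, e.1.1.1, _, e.1.1.2, e.1.2, e.2⟩

theorem expand_lt (w : List ℕ) : ∀ g ∈ C.expand w, g < 6 := by
  intro g hg
  obtain ⟨k, -, hgk⟩ := List.mem_flatMap.1 hg
  rcases lt_or_ge k C.words.length with hk | hk
  · rw [List.getD_eq_getElem _ _ hk] at hgk
    exact A.words_spec.1 _ (List.getElem_mem hk) g hgk
  · rw [List.getD_eq_default _ _ hk] at hgk
    simp at hgk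

theorem el_nil : C.el [] = 1 := by simp [Case.el, Case.expand, hel]

theorem el_cons (k : ℕ) (w : List ℕ) : C.el (k :: w) = C.el w * C.el [k] := C.el_append [k] w

theorem el_apply : ∀ (w : List ℕ), (∀ k ∈ w, k < 3) → ∀ i : Fin 1365, (π (C.el w) i).1 = C.loc w i := by
  intro w
  induction w with
  | nil => intro _ i; rw [A.el_nil, map_one]; rfl
  | cons k w ih =>
    intro hw i
    rw [A.el_cons, map_mul, Equiv.Perm.mul_apply, ih (fun x hx => hw x (List.mem_cons_of_mem _ hx))]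
    have h1 : (π (C.el [k]) i).1 = get32 C.Y (i.1 * 3 + k) := by
      rw [(A.words_spec.2.2 i.1 i.2 k (hw k List.mem_cons_self)).1, Case.el,
        A.hel_apply _ (A.expand_lt [k])]
      simp [Case.expand]
    show C.loc w _ = force (get32 C.Y (Nat.add (Nat.mul i.1 3) k)) (scan 3 C.Y w)
    rw [force_eq, h1]; rfl

theorem loc_lt (w : List ℕ) (hw : ∀ k ∈ w, k < 3) {i : ℕ} (hi : i < 1365) : C.loc w i < 1365 := by
  rw [← A.el_apply w hw ⟨i, hi⟩]; exact Fin.is_lt _

/-- the group generated by the three generators -/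
def W (_A : Act C π) : Subgroup PG := Subgroup.closure {x | ∃ k < 3, C.el [k] = x}

theorem el_mem (w : List ℕ) (hw : ∀ k ∈ w, k < 3) : C.el w ∈ A.W := by
  induction w with
  | nil => rw [A.el_nil]; exact one_mem _
  | cons k w ih =>
    rw [A.el_cons]
    exact mul_mem (ih fun x hx => hw x (List.mem_cons_of_mem _ hx))
      (Subgroup.subset_closure ⟨k, hw k List.mem_cons_self, rfl⟩)

theorem zone_W {x : PG} (hx : x ∈ A.W) : ∀ i, Case.zone (π x i).1 = Case.zone i.1 := by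
  induction hx using Subgroup.closure_induction with
  | mem x hx =>
    obtain ⟨k, hk, rfl⟩ := hx
    intro i
    rw [A.el_apply [k] (by simpa using hk)]
    show Case.zone (force (get32 C.Y (Nat.add (Nat.mul i.1 3) k)) fun z => z) = _
    rw [force_eq]
    exact (A.words_spec.2.2 i.1 i.2 k hk).2
  | one => intro i; rw [map_one]; rfl
  | mul x y _ _ hx hy => intro i; rw [map_mul, Equiv.Perm.mul_apply, hx, hy]
  | inv x _ hx => intro i; have := hx (π x⁻¹ i); rw [map_inv, Equiv.Perm.inv_def, Equiv.apply_symm_apply] at this; rw [map_inv, Equiv.Perm.inv_def]; exact this.symm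

theorem reach (i : Fin 1365) (h0 : i.1 ≠ 0) : ∃ x ∈ A.W, ∃ r : Fin 1365,
    (r.1 = 1 ∨ r.1 = 21 ∨ r.1 = 341) ∧ Case.zone r.1 = Case.zone i.1 ∧ π x r = i := by
  obtain ⟨i, hi⟩ := i
  induction i using Nat.strong_induction_on with
  | _ i ih =>
    by_cases hr : i = 1 ∨ i = 21 ∨ i = 341
    · exact ⟨1, one_mem _, ⟨i, hi⟩, hr, rfl, by rw [map_one]; rfl⟩
    push Not at hr
    obtain ⟨j, hj, k, hk, hjk, hz⟩ := A.parent_spec hi h0 hr.1 hr.2.1 hr.2.2
    have hj0 : j ≠ 0 := by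
      intro e
      have h0' : i ≠ 0 := h0
      simp only [e, Case.zone, if_pos, h0', if_false] at hz
      split_ifs at hz
    obtain ⟨x, hx, r, hr', hzr, hxr⟩ := ih j hj (by omega) hj0
    refine ⟨C.el [k] * x, mul_mem (A.el_mem [k] (by simpa using hk)) hx, r, hr', hzr.trans hz, Fin.ext ?_⟩
    rw [map_mul, Equiv.Perm.mul_apply, hxr, A.el_apply [k] (by simpa using hk)]
    show force (get32 C.Y (Nat.add (Nat.mul j 3) k)) (fun z => z) = i
    rw [force_eq]; exact hjk

theorem transitive (i : Fin 1365) : ∃ x : PG, π x 0 = i := by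
  by_cases h0 : i.1 = 0
  · exact ⟨1, by rw [map_one]; exact Fin.ext h0.symm⟩
  obtain ⟨x, -, r, hr, -, hxr⟩ := A.reach i h0
  obtain ⟨g1, g2, g3, e1, e2, e3, -⟩ := A.roots_spec
  obtain ⟨y, hy⟩ : ∃ y : PG, π y 0 = r := by
    rcases hr with e | e | e
    · exact ⟨hel C.root1, Fin.ext (by rw [A.hel_apply _ g1, e]; exact e1)⟩
    · exact ⟨hel C.root21, Fin.ext (by rw [A.hel_apply _ g2, e]; exact e2)⟩
    · exact ⟨hel C.hw, Fin.ext (by rw [A.hel_apply _ g3, e]; exact e3)⟩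
  exact ⟨x * y, by rw [map_mul, Equiv.Perm.mul_apply, hy, hxr]⟩

theorem card_stab : Nat.card (pstab π 0) = 184320 := by
  haveI := finite_PG
  have h := card_inf_mul_orbit π ⊤ 0
  have hu : {y | ∃ k ∈ (⊤ : Subgroup PG), π k 0 = y} = Set.univ :=
    Set.eq_univ_of_forall fun y => let ⟨x, hx⟩ := A.transitive y; ⟨x, Subgroup.mem_top _, hx⟩
  rw [hu, Set.ncard_univ, Nat.card_fin, top_inf_eq, Subgroup.card_top, card_PG] at h
  omega

theorem index_stab : (pstab π 0).index = 1365 := by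
  have h := (pstab π 0).card_mul_index
  rw [A.card_stab, card_PG] at h
  omega

theorem W_le : A.W ≤ pstab π 0 := fun x hx => mem_pstab.2 <| Fin.ext (by
  have h := A.zone_W hx 0
  generalize (π x 0).1 = j at h ⊢
  simp only [Case.zone, Fin.val_zero, if_pos] at h
  split_ifs at h
  assumption)

theorem point_spec : 341 ≤ C.b ∧ C.b < 1365 ∧ C.te 0 = [] ∧ C.i1 < 180 ∧ C.i2 < 180 ∧
    C.loc [0] 341 = 341 ∧ C.loc [1] 341 = 341 ∧ C.loc [0] C.b = get32 C.TB C.i1 ∧
    C.loc [1] C.b = get32 C.TB C.i2 ∧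
    ∀ k < 180, (∀ x ∈ C.te k, x < 2) ∧ C.loc (C.te k) 341 = 341 ∧ C.loc (C.te k) C.b = get32 C.TB k ∧
      get32 C.pos (get32 C.TB k) = k ∧ get32 C.inv k < 180 ∧ C.mul k (get32 C.inv k) = 0 := by
  have h := A.ok.point
  simp only [Case.pointCheck, Bool.and_eq_true, allBelow_iff, List.all_eq_true, decide_eq_true_eq,
    beq_iff_eq] at h
  obtain ⟨⟨⟨⟨⟨⟨⟨⟨⟨h1, h2⟩, h3⟩, h4⟩, h5⟩, h6⟩, h7⟩, h8⟩, h9⟩, h10⟩ := h
  exact ⟨h1, h2, h3, h4, h5, h6, h7, h8, h9, fun k hk => ⟨(h10 k hk).1.1.1.1.1, (h10 k hk).1.1.1.1.2,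
    (h10 k hk).1.1.1.2, (h10 k hk).1.1.2, (h10 k hk).1.2, (h10 k hk).2⟩⟩

theorem te_lt {k : ℕ} (hk : k < 180) : ∀ x ∈ C.te k, x < 3 := fun x hx => by
  have := (A.point_spec.2.2.2.2.2.2.2.2.2 k hk).1 x hx; omega

/-- the marked point -/
def q (_A : Act C π) : Fin 1365 := ⟨341, by omega⟩

/-- the base point of the regular orbit -/
def base : Fin 1365 := ⟨C.b, A.point_spec.2.1⟩

/-- the `k`th element of the two-point stabiliser -/
noncomputable def t (_A : Act C π) (k : ℕ) : PG := C.el (C.te k)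

theorem t_zero : A.t 0 = 1 := by rw [t, A.point_spec.2.2.1]; exact A.el_nil

theorem t_q {k : ℕ} (hk : k < 180) : π (A.t k) A.q = A.q := Fin.ext (by
  rw [t, A.el_apply _ (A.te_lt hk)]; exact (A.point_spec.2.2.2.2.2.2.2.2.2 k hk).2.1)

theorem t_b {k : ℕ} (hk : k < 180) : (π (A.t k) A.base).1 = get32 C.TB k := by
  rw [t, A.el_apply _ (A.te_lt hk)]; exact (A.point_spec.2.2.2.2.2.2.2.2.2 k hk).2.2.1

theorem t_mem {k : ℕ} (hk : k < 180) : A.t k ∈ A.W := A.el_mem _ (A.te_lt hk)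

theorem t_inj {k l : ℕ} (hk : k < 180) (hl : l < 180) (h : A.t k = A.t l) : k = l := by
  have := A.t_b hk
  rw [h, A.t_b hl] at this
  rw [← (A.point_spec.2.2.2.2.2.2.2.2.2 k hk).2.2.2.1, ← this, (A.point_spec.2.2.2.2.2.2.2.2.2 l hl).2.2.2.1]

theorem W_stab : A.W = pstab π 0 ∧ ∀ x : PG, π x 0 = 0 → π x A.q = A.q → ∃ k < 180, A.t k = x := by
  haveI := finite_PG
  have hsub : ∀ i : Fin 1365, 341 ≤ i.1 → i ∈ {y | ∃ k ∈ A.W, π k A.q = y} := fun i hi => by
    obtain ⟨x, hx, r, hr, hz, hxr⟩ := A.reach i (by omega)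
    refine ⟨x, hx, ?_⟩
    have : r.1 = 341 := by
      simp only [Case.zone, show i.1 ≠ 0 by omega, show ¬ i.1 < 21 by omega, show ¬ i.1 < 341 by omega,
        if_false] at hz
      rcases hr with e | e | e
      · simp [e] at hz
      · simp [e] at hz
      · exact e
    rw [show A.q = r from Fin.ext this.symm, hxr]
  have horb : 1024 ≤ {y | ∃ k ∈ A.W, π k A.q = y}.ncard := by
    refine le_trans (le_of_eq ?_) (Set.ncard_le_ncard (s := {i : Fin 1365 | 341 ≤ i.1}) (fun i hi => hsub i hi))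
    rw [show {i : Fin 1365 | 341 ≤ i.1} = Set.range fun j : Fin 1024 => (⟨341 + j.1, by omega⟩ : Fin 1365) from
      Set.ext fun i => ⟨fun hi => ⟨⟨i.1 - 341, by omega⟩, Fin.ext (by
        have : 341 ≤ i.1 := hi
        show 341 + (i.1 - 341) = i.1
        omega)⟩, by rintro ⟨j, rfl⟩; exact Nat.le_add_right _ _⟩,
      ← Set.image_univ, Set.ncard_image_of_injective _ (fun a b h => Fin.ext (by simpa using h)),
      Set.ncard_univ, Nat.card_fin]
  let f : Fin 180 → (A.W ⊓ pstab π A.q : Subgroup PG) := fun k => ⟨A.t k.1, A.t_mem k.2, A.t_q k.2⟩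
  have hf : Function.Injective f := fun a b h => Fin.ext (A.t_inj a.2 b.2 (congrArg Subtype.val h))
  have hge : 180 ≤ Nat.card (A.W ⊓ pstab π A.q : Subgroup PG) := by
    simpa using Nat.card_le_card_of_injective f hf
  have hW := card_inf_mul_orbit π A.W A.q
  have heq : A.W = pstab π 0 := by
    refine Subgroup.eq_of_le_of_card_ge A.W_le ?_
    rw [A.card_stab, ← hW]
    exact le_trans (by norm_num) (Nat.mul_le_mul hge horb)
  refine ⟨heq, fun x h0 hq => ?_⟩
  have hcard : Nat.card A.W = 184320 := by rw [heq, A.card_stab]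
  have hle : Nat.card (A.W ⊓ pstab π A.q : Subgroup PG) ≤ 180 := by
    by_contra hlt
    push Not at hlt
    have := Nat.mul_le_mul hlt horb
    rw [hW, hcard] at this
    norm_num at this
  obtain ⟨k, hk⟩ := ((Nat.bijective_iff_injective_and_card f).2 ⟨hf, by rw [Nat.card_fin]; omega⟩).2
    ⟨x, by rw [heq]; exact h0, hq⟩
  exact ⟨k.1, k.2, congrArg Subtype.val hk⟩

/-- an element of the stabiliser is determined by two images -/
theorem ext_two {x y : PG} (hx : π x 0 = 0) (hy : π y 0 = 0) (hq : π x A.q = π y A.q)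
    (hb : π x A.base = π y A.base) : x = y := by
  obtain ⟨k, hk, hkx⟩ := A.W_stab.2 (y⁻¹ * x)
    (by rw [map_mul, Equiv.Perm.mul_apply, hx, map_inv, Equiv.Perm.inv_def, Equiv.symm_apply_eq, hy])
    (by rw [map_mul, Equiv.Perm.mul_apply, hq, map_inv, Equiv.Perm.inv_def, Equiv.symm_apply_apply])
  have hk0 : A.t k = A.t 0 := by
    have h1 : get32 C.TB k = get32 C.TB 0 := by
      rw [← A.t_b hk, ← A.t_b (by norm_num : 0 < 180), A.t_zero, hkx, map_mul, Equiv.Perm.mul_apply, hb,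
        map_inv, Equiv.Perm.inv_def, Equiv.symm_apply_apply, map_one]
      rfl
    rw [show k = 0 by rw [← (A.point_spec.2.2.2.2.2.2.2.2.2 k hk).2.2.2.1, h1,
      (A.point_spec.2.2.2.2.2.2.2.2.2 0 (by norm_num)).2.2.2.1]]
  rw [hkx, A.t_zero, inv_mul_eq_one] at hk0
  exact hk0.symm

theorem el_stab (w : List ℕ) (hw : ∀ k ∈ w, k < 3) : π (C.el w) 0 = 0 := A.W_le (A.el_mem w hw)

theorem mul_spec {k l : ℕ} (hk : k < 180) (hl : l < 180) :
    C.mul k l < 180 ∧ A.t k * A.t l = A.t (C.mul k l) := by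
  have h := A.ok.mul
  simp only [Case.mulCheck, allBelow_iff, Bool.and_eq_true, decide_eq_true_eq, beq_iff_eq] at h
  obtain ⟨hlt, he⟩ := h k hk l hl
  refine ⟨hlt, A.ext_two ?_ ?_ ?_ ?_⟩
  · rw [map_mul, Equiv.Perm.mul_apply, mem_pstab.1 (A.W_le (A.t_mem hl)), mem_pstab.1 (A.W_le (A.t_mem hk))]
  · exact A.W_le (A.t_mem hlt)
  · rw [map_mul, Equiv.Perm.mul_apply, A.t_q hl, A.t_q hk, A.t_q hlt]
  · refine Fin.ext ?_
    rw [map_mul, Equiv.Perm.mul_apply, A.t_b hlt, t, A.el_apply _ (A.te_lt hk), A.t_b hl]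
    exact he

theorem inv_spec {k : ℕ} (hk : k < 180) : get32 C.inv k < 180 ∧ A.t (get32 C.inv k) = (A.t k)⁻¹ := by
  obtain ⟨-, -, -, -, h1, h2⟩ := A.point_spec.2.2.2.2.2.2.2.2.2 k hk
  refine ⟨h1, eq_inv_of_mul_eq_one_right ?_⟩
  rw [(A.mul_spec hk h1).2, h2, A.t_zero]

theorem el_gen {k : ℕ} (hk : k < 2) : C.el [k] = A.t (if k = 0 then C.i1 else C.i2) ∧
    (if k = 0 then C.i1 else C.i2) < 180 := by
  obtain ⟨-, -, -, h1, h2, e1, e2, e3, e4, -⟩ := A.point_spec
  interval_cases k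
  · exact ⟨A.ext_two (A.el_stab _ (by simp)) (A.W_le (A.t_mem h1))
      (Fin.ext (by rw [A.el_apply _ (by simp)]; exact e1.trans (congrArg Fin.val (A.t_q h1)).symm))
      (Fin.ext (by rw [A.el_apply _ (by simp)]; exact e3.trans (A.t_b h1).symm)), h1⟩
  · exact ⟨A.ext_two (A.el_stab _ (by simp)) (A.W_le (A.t_mem h2))
      (Fin.ext (by rw [A.el_apply _ (by simp)]; exact e2.trans (congrArg Fin.val (A.t_q h2)).symm))
      (Fin.ext (by rw [A.el_apply _ (by simp)]; exact e4.trans (A.t_b h2).symm)), h2⟩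

/-- words in two elements of the two-point stabiliser -/
theorem evT_spec {a c : ℕ} (ha : a < 180) (hc : c < 180) (v : List ℕ) :
    ∀ w : List ℕ, (∀ k ∈ w, k < 2) → C.evT a c w < 180 ∧
      A.t (C.evT a c w) = C.el (Case.subst (C.te a) (C.te c) v w) := by
  intro w
  induction w using List.reverseRecOn with
  | nil => intro _; exact ⟨by simp [Case.evT], by rw [Case.evT, List.foldl_nil, A.t_zero]; exact A.el_nil.symm⟩
  | append_singleton w k ih =>
    intro hw
    obtain ⟨h1, h2⟩ := ih fun x hx => hw x (List.mem_append_left _ hx)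
    have hk : k < 2 := hw k (by simp)
    have ha' : (if k = 0 then a else c) < 180 := by split_ifs <;> assumption
    rw [Case.evT, List.foldl_append, List.foldl_cons, List.foldl_nil]
    obtain ⟨h3, h4⟩ := A.mul_spec ha' h1
    refine ⟨h3, h4.symm.trans ?_⟩
    rw [Case.subst, List.flatMap_append, C.el_append, h2]
    congr 1
    interval_cases k <;> simp [t]

end Act

end Cfsg.Agent.Lib.SuzRank51
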