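import Cfsg.Agent.Lib.SuzRank51.Swap
import Cfsg.Agent.Lib.SuzRank51.CheckGood
import Cfsg.Agent.Lib.CosetEnum.Suz1782.Enum

/-!
The surviving class gives seven elements satisfying the relators of the presented Suzuki group.
Owner: helper51.
-/

set_option autoImplicit false
set_option maxRecDepth 20000

namespace Cfsg.Agent.Lib.SuzRank51

open Cfsg.Agent.Lib.CosetEnum

variable {π : PG →* Equiv.Perm (Fin 1365)} {G Ω : Type*} [Group G] [MulAction G Ω]
  {A : Act pCase π} {K : Cls} {ψ : PG →* G} {a : Ω} {f : Fin 1365 → Ω} {s : G}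

/-- the seven elements -/
noncomputable def seven (A : Act pCase π) (ψ : PG →* G) (s : G) (g : ℕ) : G :=
  if g = 6 then (ψ (A.t pTg) * s)⁻¹ else ψ (SuzSub.letters.phi SuzSub.pres g)

namespace Normal

variable (N : Normal A K ψ a f s) (hT : pCase.twistCheck K = true) (hsv : K.sv = true)
include N hT hsv

theorem step_spec {g : ℕ} (hg : g < 7) {p : ℕ} (h : genStep K.S g p ≤ 1365) :
    p ≤ 1365 ∧ (seven A ψ s g)⁻¹ • pt a f p = pt a f (genStep K.S g p) := by
  unfold genStep seven at *
  by_cases h6 : g = 6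
  · simp only [h6, if_true, inv_inv] at h ⊢
    have hsw : Case.swapStep K.S p ≤ 1365 := by
      split_ifs at h with h1
      · exact h1.le
      · exact h
    obtain ⟨hp, e⟩ := N.swap_spec hT hsv hsw
    refine ⟨hp, ?_⟩
    rw [mul_smul, e]
    split_ifs with h1
    · rw [pt, dif_pos h1, pt, dif_pos (A.loc_lt _ (A.te_lt p_tg) h1), ← N.setup.map]
      exact congrArg f (Fin.ext (A.el_apply _ (A.te_lt p_tg) ⟨_, h1⟩))
    · rw [pt, dif_neg h1]; exact N.setup.fix_a _
  · simp only [h6, if_false] at h ⊢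
    rw [← map_inv]
    by_cases h1 : p < 1365
    · refine ⟨h1.le, ?_⟩
      rw [if_pos h1] at h ⊢
      have e := A.spec g (by omega) ⟨p, h1⟩
      have hlt : get32 pCase.T (p * 6 + g) < 1365 := e ▸ Fin.is_lt _
      rw [pt, dif_pos h1, pt, dif_pos hlt, ← N.setup.map]
      refine congrArg f (Fin.ext ?_)
      rw [map_inv]; exact e
    · rw [if_neg h1] at h ⊢
      exact ⟨h, by rw [pt, dif_neg h1]; exact N.setup.fix_a _⟩

theorem scan_spec : ∀ l : List ℕ, (∀ g ∈ l, g < 7) → ∀ p, genScan K.S l p ≤ 1365 →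
    p ≤ 1365 ∧ ((l.map (seven A ψ s)).prod)⁻¹ • pt a f p = pt a f (genScan K.S l p) := by
  intro l
  induction l with
  | nil => intro _ p hp; exact ⟨hp, by simp [genScan]⟩
  | cons g l ih =>
    intro hl p hp
    have hrec : genScan K.S (g :: l) p = genScan K.S l (genStep K.S g p) := rfl
    rw [hrec] at hp ⊢
    obtain ⟨h1, e1⟩ := ih (fun x hx => hl x (List.mem_cons_of_mem _ hx)) _ hp
    obtain ⟨h2, e2⟩ := N.step_spec hT hsv (hl g List.mem_cons_self) h1
    refine ⟨h2, ?_⟩
    rw [List.map_cons, List.prod_cons, mul_inv_rev, mul_smul, e2, e1]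

theorem rel_word (hG : goodCheck K = true) (hgood : K.c = 5) :
    ∀ l ∈ Suz1782.letters.RL, (l.map (seven A ψ s)).prod = 1 := by
  simp only [goodCheck, hgood, beq_self_eq_true, Bool.not_true, Bool.false_or, Bool.and_eq_true,
    List.all_eq_true, decide_eq_true_eq, beq_iff_eq] at hG
  intro l hl
  obtain ⟨hlt, hfix⟩ := hG.2 l hl
  have key : ∀ p ∈ [1365, 0, 341, pCase.b], p ≤ 1365 →
      ((l.map (seven A ψ s)).prod)⁻¹ • pt a f p = pt a f p := fun p hp hle => by
    have h := hfix p hp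
    obtain ⟨-, e⟩ := N.scan_spec hT hsv l hlt p (by rw [h]; exact hle)
    rwa [h] at e
  obtain ⟨x, hx⟩ := N.setup.exists_of_fix (g := ((l.map (seven A ψ s)).prod)⁻¹) (by
    have := key 1365 (by simp) le_rfl
    rwa [pt, dif_neg (by norm_num)] at this)
  have hb := A.point_spec.2.1
  have hval : ∀ p ∈ [1365, 0, 341, pCase.b], ∀ h : p < 1365, π x ⟨p, h⟩ = ⟨p, h⟩ := fun p hp h => by
    have := key p hp h.le
    rw [← hx, pt, dif_pos h, ← N.setup.map] at this
    exact N.setup.finj this
  have hx1 : x = 1 := A.ext_two (hval 0 (by simp) (by norm_num)) (by rw [map_one]; rfl)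
    (by rw [map_one]; exact hval 341 (by simp) (by norm_num))
    (by rw [map_one]; exact hval pCase.b (by simp) hb)
  rw [hx1, map_one] at hx
  rw [← inv_inv (l.map (seven A ψ s)).prod, ← hx, inv_one]

theorem exists_hom (hG : goodCheck K = true) (hgood : K.c = 5) :
    ∃ Φ : Cfsg.Spor.Suz →* G, ψ.range ≤ Φ.range ∧ ∃ g ∈ Φ.range, g • a ≠ a := by
  have hrel := N.rel_word hT hsv hG hgood
  let v : Cfsg.Spor.Suz.Gen → G := fun x => seven A ψ s (Suz1782.letters.col x)
  have hcol := Suz1782.table_ok.col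
  have hsym : ∀ g < 7, FreeGroup.lift v (FreeGroup.mk [Suz1782.letters.sym g]) = seven A ψ s g := by
    intro g hg
    have e : Suz1782.letters.col (Suz1782.letters.sym g).1 = g ∧ (Suz1782.letters.sym g).2 = true := by
      interval_cases g <;> exact ⟨by decide +kernel, by decide +kernel⟩
    rw [show Suz1782.letters.sym g = ((Suz1782.letters.sym g).1, true) by rw [← e.2]]
    change FreeGroup.lift v (FreeGroup.of _) = _
    rw [FreeGroup.lift_apply_of]
    show seven A ψ s _ = _
    rw [e.1]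
  have hword : ∀ l : List ℕ, (∀ g ∈ l, g < 7) →
      FreeGroup.lift v (Suz1782.letters.word l) = (l.map (seven A ψ s)).prod := by
    intro l
    induction l with
    | nil => intro _; simp [Letters.word, ← FreeGroup.one_eq_mk]
    | cons g l ih =>
      intro hl
      have hw : Suz1782.letters.word (g :: l) = FreeGroup.mk [Suz1782.letters.sym g] * Suz1782.letters.word l := by
        simp [Letters.word]
      rw [hw, map_mul, ih (fun x hx => hl x (List.mem_cons_of_mem _ hx)), hsym g (hl g List.mem_cons_self),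
        List.map_cons, List.prod_cons]
  have hok := Suz1782.letters_ok
  have hinv : ∀ g < Suz1782.letters.K, invL Suz1782.letters.IV g < Suz1782.letters.K ∧
      FreeGroup.lift v (FreeGroup.mk [Suz1782.letters.sym (invL Suz1782.letters.IV g)]) =
        (FreeGroup.lift v (FreeGroup.mk [Suz1782.letters.sym g]))⁻¹ := by
    intro g hg
    obtain ⟨h1, h2, -⟩ := hok.2.2.1 g hg
    refine ⟨h1, ?_⟩
    rw [hsym g hg, hsym _ h1]
    have := hrel _ h2
    rw [List.map_cons, List.map_cons, List.map_nil, List.prod_cons, List.prod_cons, List.prod_nil, mul_one] at this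
    exact eq_inv_of_mul_eq_one_right this
  have hrels : ∀ r ∈ Suz1782.letters.rels, FreeGroup.lift v r = 1 := fun r hr => by
    obtain ⟨l, hl, hlr⟩ := hok.2.2.2.2 r hr
    obtain ⟨e, hlt⟩ := Letters.word_lettersOf (L := Suz1782.letters) (FreeGroup.lift v) hcol hinv r
    rw [← e, hword _ hlt, hlr]
    exact hrel l hl
  have hpres : ∀ r ∈ Suz1782.pres, FreeGroup.lift v r = 1 :=
    lift_rels_of_list (nodes := [Cfsg.Spor.Suz.Gen.a, Cfsg.Spor.Suz.Gen.b, Cfsg.Spor.Suz.Gen.c,
      Cfsg.Spor.Suz.Gen.d, Cfsg.Spor.Suz.Gen.e, Cfsg.Spor.Suz.Gen.f, Cfsg.Spor.Suz.Gen.g]) (by decide +kernel) _ hrels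
  let Φ : Cfsg.Spor.Suz →* G := PresentedGroup.toGroup hpres
  have hmem : ∀ g < 7, seven A ψ s g ∈ Φ.range := fun g hg => by
    refine ⟨PresentedGroup.mk _ (FreeGroup.mk [Suz1782.letters.sym g]), ?_⟩
    exact (show Φ (PresentedGroup.mk _ _) = FreeGroup.lift v _ from rfl).trans (hsym g hg)
  refine ⟨Φ, ?_, _, hmem 6 (by norm_num), ?_⟩
  · rw [range_eq_closure SuzSub.letters SuzSub.pres SuzSub.letters_col ψ, Subgroup.closure_le]
    rintro _ ⟨g, hg, rfl⟩
    have hg' : g < 6 := hg
    have := hmem g (by omega)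
    rwa [seven, if_neg (by omega : g ≠ 6)] at this
  · rw [seven, if_pos rfl, ne_eq, inv_smul_eq_iff, mul_smul, N.setup.sa, ← N.setup.map,
      mem_pstab.1 (A.W_le (A.t_mem p_tg))]
    exact fun h => N.setup.off 0 h.symm

end Normal

end Cfsg.Agent.Lib.SuzRank51
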