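import Cfsg.Agent.Lib.SuzRank51.Classify
import Cfsg.Agent.Lib.SuzRank51.Relators
import Cfsg.Agent.Lib.G24.Transport
import Cfsg.Agent.S1694

/-!
A rank 3 group on 1782 points with point stabiliser `G2(4)` and suborbits 416, 1365 is the Suzuki group.
Owner: helper51.
-/

set_option autoImplicit false
set_option maxRecDepth 20000

namespace Cfsg.Agent.Lib.SuzRank51

open Cfsg.Agent.Lib.CosetEnum

theorem p_classes : Classes pCase := ⟨p_pair, p_third, p_twist⟩

theorem q_classes : Classes qCase := ⟨q_pair, q_third, q_twist⟩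

section

variable {G Ω : Type*} [Group G] [MulAction G Ω]

/-- the chart of a suborbit with a known stabiliser -/
theorem exists_chart {C : Case} {π : PG →* Equiv.Perm (Fin 1365)} (A : Act C π) {ψ : PG →* G} {c : Ω}
    (hc : ∀ x, ψ x • c = c ↔ π x 0 = 0) :
    ∃ f : Fin 1365 → Ω, Function.Injective f ∧ f 0 = c ∧ ∀ x i, f (π x i) = ψ x • f i := by
  choose r hr using A.transitive
  have key : ∀ x y : PG, π x 0 = π y 0 → ψ x • c = ψ y • c := fun x y h => by
    have h1 : ψ (y⁻¹ * x) • c = c := (hc _).2 (by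
      rw [map_mul, Equiv.Perm.mul_apply, h, map_inv, Equiv.Perm.inv_def, Equiv.symm_apply_apply])
    rwa [map_mul, map_inv, mul_smul, inv_smul_eq_iff] at h1
  refine ⟨fun i => ψ (r i) • c, fun i j h => ?_, ?_, fun x i => ?_⟩
  · have h1 : ψ ((r j)⁻¹ * r i) • c = c := by
      rw [map_mul, map_inv, mul_smul, inv_smul_eq_iff]; exact h
    have h2 := (hc _).1 h1
    rw [map_mul, Equiv.Perm.mul_apply, hr, map_inv, Equiv.Perm.inv_def, Equiv.symm_apply_eq, hr] at h2
    exact h2
  · exact (hc _).2 (hr 0)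
  · show ψ (r (π x i)) • c = ψ x • ψ (r i) • c
    rw [← mul_smul, ← map_mul]
    refine key _ _ ?_
    rw [hr, map_mul, Equiv.Perm.mul_apply, hr]

/-- orbit of a point under a subgroup given by a homomorphism -/
theorem ncard_orbit_range (ψ : PG →* G) (z : Ω) :
    {w | ∃ x, ψ x • z = w}.ncard = ((MulAction.stabilizer G z).comap ψ).index := by
  letI : MulAction PG Ω := MulAction.compHom Ω ψ
  exact (MulAction.index_stabilizer PG z).symm

/-- a swap of the fixed point and the base point -/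
theorem exists_setup {C : Case} {π : PG →* Equiv.Perm (Fin 1365)} (A : Act C π) {ψ : PG →* G}
    (hψ : Function.Injective ψ) {a b c : Ω} (hfix : ∀ g : G, g • a = a ↔ g ∈ ψ.range)
    (htr : ∀ x y : Ω, ∃ g : G, g • x = y) (hΩ : Nat.card Ω = 1782)
    (hb : {w | ∃ x, ψ x • b = w}.ncard = 416) (hc : {w | ∃ x, ψ x • c = w}.ncard = 1365)
    (hst : ∀ x, ψ x • c = c ↔ π x 0 = 0) : ∃ f s, Setup A ψ a f s ∧
      ∀ d, d = a ∨ d ∈ {w | ∃ x, ψ x • b = w} ∨ d ∈ Set.range f := by
  haveI := finite_PG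
  have hfin : Finite Ω := Nat.finite_of_card_ne_zero (by rw [hΩ]; norm_num)
  obtain ⟨f, hfinj, hf0, hmap⟩ := exists_chart A hst
  have horbf : {w | ∃ x, ψ x • c = w} = Set.range f := by
    ext w
    constructor
    · rintro ⟨x, rfl⟩; exact ⟨π x 0, by rw [hmap, hf0]⟩
    · rintro ⟨i, rfl⟩
      obtain ⟨x, rfl⟩ := A.transitive i
      exact ⟨x, by rw [hmap, hf0]⟩
  have ha : {w | ∃ x, ψ x • a = w} = {a} :=
    Set.ext fun w => ⟨fun ⟨x, hx⟩ => hx ▸ (hfix _).2 ⟨x, rfl⟩, fun hw => ⟨1, by rw [map_one, one_smul]; exact hw.symm⟩⟩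
  have hoff : ∀ i, f i ≠ a := fun i h => by
    obtain ⟨x, hx⟩ : ∃ x, ψ x • c = a := (horbf ▸ ⟨i, h⟩ : a ∈ {w | ∃ x, ψ x • c = w})
    have hca : c = a := by
      rw [← inv_smul_eq_iff.2 hx.symm, ← map_inv]; exact (hfix _).2 ⟨_, rfl⟩
    rw [hca, ha, Set.ncard_singleton] at hc
    norm_num at hc
  have hab : b ≠ a := fun h => by rw [h, ha, Set.ncard_singleton] at hb; norm_num at hb
  have hcover : ∀ d, d = a ∨ d ∈ {w | ∃ x, ψ x • b = w} ∨ d ∈ Set.range f := by
    have hdis : Disjoint {w | ∃ x, ψ x • b = w} (Set.range f) := by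
      rw [Set.disjoint_left, ← horbf]
      rintro w ⟨x, rfl⟩ ⟨y, hy⟩
      have : {w | ∃ x, ψ x • c = w} = {w | ∃ x, ψ x • b = w} := by
        have hcb : c = ψ (y⁻¹ * x) • b := by rw [map_mul, map_inv, mul_smul, ← hy, inv_smul_smul]
        ext w
        constructor
        · rintro ⟨z, rfl⟩; exact ⟨z * (y⁻¹ * x), by rw [map_mul, mul_smul, ← hcb]⟩
        · rintro ⟨z, rfl⟩
          refine ⟨z * (y⁻¹ * x)⁻¹, ?_⟩
          rw [hcb, ← mul_smul, ← map_mul, inv_mul_cancel_right]
      rw [this, hb] at hc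
      norm_num at hc
    have hna : a ∉ {w | ∃ x, ψ x • b = w} ∪ Set.range f := by
      rintro (⟨x, hx⟩ | ⟨i, hi⟩)
      · exact hab (by rw [← inv_smul_eq_iff.2 hx.symm, ← map_inv]; exact (hfix _).2 ⟨_, rfl⟩)
      · exact hoff i hi
    have huniv : insert a ({w | ∃ x, ψ x • b = w} ∪ Set.range f) = Set.univ := by
      rw [Set.eq_univ_iff_ncard, Set.ncard_insert_of_notMem hna, Set.ncard_union_eq hdis, hb,
        Set.ncard_range_of_injective hfinj, Nat.card_fin, hΩ]
    intro d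
    have := Set.mem_univ d
    rw [← huniv] at this
    rcases this with h | h | h
    exacts [Or.inl h, Or.inr (Or.inl h), Or.inr (Or.inr h)]
  obtain ⟨g, hg⟩ := htr a c
  set d := g⁻¹ • a with hd
  -- the two stabilisers correspond under conjugation
  have key : ∀ x : PG, ψ x • d = d → ∃ y, π y 0 = 0 ∧ ψ y = g * ψ x * g⁻¹ := fun x hx => by
    have h1 : (g * ψ x * g⁻¹) • a = a := by
      rw [mul_smul, mul_smul, ← hd, hx, hd, smul_inv_smul]
    obtain ⟨y, hy⟩ := (hfix _).1 h1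
    refine ⟨y, (hst y).1 ?_, hy⟩
    rw [hy, mul_smul, mul_smul, ← hg, inv_smul_smul, (hfix _).2 ⟨x, rfl⟩]
  have key' : ∀ y : PG, π y 0 = 0 → ∃ x, ψ x • d = d ∧ ψ x = g⁻¹ * ψ y * g := fun y hy => by
    have h1 : (g⁻¹ * ψ y * g) • a = a := by
      rw [mul_smul, mul_smul, hg, (hst y).2 hy, ← hg, inv_smul_smul]
    obtain ⟨x, hx⟩ := (hfix _).1 h1
    exact ⟨x, by rw [hx, hd, mul_smul, mul_smul, smul_inv_smul, (hfix _).2 ⟨y, rfl⟩], hx⟩
  choose F hF1 hF2 using key
  choose F' hF1' hF2' using key'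
  let E : ((MulAction.stabilizer G d).comap ψ : Subgroup PG) ≃ (pstab π 0 : Subgroup PG) :=
    { toFun := fun x => ⟨F x.1 x.2, hF1 x.1 x.2⟩
      invFun := fun y => ⟨F' y.1 y.2, hF1' y.1 y.2⟩
      left_inv := fun x => Subtype.ext (hψ (by
        refine (hF2' (F x.1 x.2) (hF1 x.1 x.2)).trans ?_
        rw [hF2 x.1 x.2]; group))
      right_inv := fun y => Subtype.ext (hψ (by
        refine (hF2 (F' y.1 y.2) (hF1' y.1 y.2)).trans ?_
        rw [hF2' y.1 y.2]; group)) }
  have hdc : {w | ∃ x, ψ x • d = w}.ncard = 1365 := by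
    rw [ncard_orbit_range]
    have h1 := ((MulAction.stabilizer G d).comap ψ).card_mul_index
    rw [Nat.card_congr E, A.card_stab, card_PG] at h1
    omega
  obtain ⟨h, hh⟩ : d ∈ Set.range f := by
    rcases hcover d with e | ⟨x, hx⟩ | e
    · exfalso
      have : a = c := by rw [← hg]; rw [hd, inv_smul_eq_iff] at e; exact e
      rw [← this, ha, Set.ncard_singleton] at hc
      norm_num at hc
    · exfalso
      have : {w | ∃ y, ψ y • d = w} = {w | ∃ y, ψ y • b = w} := by
        ext w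
        constructor
        · rintro ⟨y, rfl⟩; exact ⟨y * x, by rw [map_mul, mul_smul, hx]⟩
        · rintro ⟨y, rfl⟩; exact ⟨y * x⁻¹, by rw [← hx, ← mul_smul, ← map_mul, inv_mul_cancel_right]⟩
      rw [this, hb] at hdc
      norm_num at hdc
    · exact e
  obtain ⟨x, hx⟩ := A.transitive h
  refine ⟨f, g * ψ x, ⟨hψ, hfix, hfinj, hoff, hmap, ?_, ?_, hΩ⟩, hcover⟩
  · rw [mul_smul, (hfix _).2 ⟨x, rfl⟩, hg, hf0]
  · rw [mul_smul, ← hmap, hx, hh, hd, smul_inv_smul]

end

theorem iso_suz {G Ω : Type*} [Group G] [MulAction G Ω] [FaithfulSMul G Ω] (hΩ : Nat.card Ω = 1782)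
    (htr : ∀ x y : Ω, ∃ g : G, g • x = y) {a b c : Ω} {ψ : PG →* G} (hψ : Function.Injective ψ)
    (hfix : ∀ g : G, g • a = a ↔ g ∈ ψ.range) (hb : {w | ∃ x, ψ x • b = w}.ncard = 416)
    (hc : {w | ∃ x, ψ x • c = w}.ncard = 1365) : Cfsg.Spor.IsoSuz G := by
  haveI := finite_PG
  haveI hfin : Finite Ω := Nat.finite_of_card_ne_zero (by rw [hΩ]; norm_num)
  haveI : Finite G := Finite.of_injective (fun g : G => (MulAction.toPerm g : Equiv.Perm Ω))
    MulAction.toPerm_injective
  obtain ⟨πP, AP⟩ := p_checked.exists_act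
  obtain ⟨πQ, AQ⟩ := q_checked.exists_act
  let X : Subgroup PG := (MulAction.stabilizer G c).comap ψ
  have hX : X.index = 1365 := (ncard_orbit_range ψ c).symm.trans hc
  obtain ⟨k, hk⟩ := exists_conj_stab AP AQ hX
  have hmv : ∀ (π : PG →* Equiv.Perm (Fin 1365)), X.map (MulAut.conj k).toMonoidHom = pstab π 0 →
      (∀ x, ψ x • (ψ k • c) = ψ k • c ↔ π x 0 = 0) ∧ {w | ∃ x, ψ x • ψ k • c = w}.ncard = 1365 := by
    intro π hπ
    refine ⟨fun x => ?_, ?_⟩
    · rw [← mem_pstab, ← hπ, Subgroup.mem_map_equiv, MulAut.conj_symm_apply, Subgroup.mem_comap,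
        MulAction.mem_stabilizer_iff, map_mul, map_mul, map_inv, mul_smul, mul_smul, inv_smul_eq_iff]
    · rw [← hc]
      congr 1
      ext w
      constructor
      · rintro ⟨x, rfl⟩; exact ⟨x * k, by rw [map_mul, mul_smul]⟩
      · rintro ⟨x, rfl⟩; exact ⟨x * k⁻¹, by rw [← mul_smul, ← map_mul, inv_mul_cancel_right]⟩
  rcases hk with hk | hk
  swap
  · exfalso
    obtain ⟨h1, h2⟩ := hmv πQ hk
    obtain ⟨f, s, S, -⟩ := exists_setup AQ hψ hfix htr hΩ hb h2 h1
    obtain ⟨K, hK, hsv, s', N⟩ := S.exists_normal q_classes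
    exact N.bad (q_twist K hK) hsv (q_bad K hK)
  obtain ⟨h1, h2⟩ := hmv πP hk
  obtain ⟨f, s, S, hcover⟩ := exists_setup AP hψ hfix htr hΩ hb h2 h1
  obtain ⟨K, hK, hsv, s, N⟩ := S.exists_normal p_classes
  have hgood : K.c = 5 := (p_bad K hK).resolve_right fun h => N.bad (p_twist K hK) hsv h
  obtain ⟨Φ, hle, g, hg, hga⟩ := N.exists_hom (p_twist K hK) hsv (p_good K hK) hgood
  -- the image is everything
  have hcardG : Nat.card G = 1782 * 251596800 := by
    have h := (MulAction.stabilizer G a).card_mul_index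
    rw [MulAction.index_stabilizer, show MulAction.orbit G a = Set.univ from
      Set.eq_univ_of_forall fun y => htr a y, Set.ncard_univ, hΩ] at h
    rw [← h, show MulAction.stabilizer G a = ψ.range from Subgroup.ext fun y => hfix y,
      ← Nat.card_congr (MonoidHom.ofInjective hψ).toEquiv, card_PG]
  let O : Set Ω := MulAction.orbit Φ.range a
  have hinv : ∀ (x : PG) (d : Ω), d ∈ O → ψ x • d ∈ O := by
    rintro x _ ⟨m, rfl⟩
    exact ⟨⟨ψ x * m, Φ.range.mul_mem (hle ⟨x, rfl⟩) m.2⟩, mul_smul (ψ x) (m : G) a⟩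
  have haO : a ∈ O := MulAction.mem_orbit_self a
  have hgaO : g • a ∈ O := ⟨⟨g, hg⟩, rfl⟩
  have hst : (MulAction.stabilizer Φ.range a).map Φ.range.subtype = ψ.range := by
    ext y
    constructor
    · rintro ⟨m, hm, rfl⟩; exact (hfix _).1 hm
    · intro hy; exact ⟨⟨y, hle hy⟩, (hfix y).2 hy, rfl⟩
  have hM : Nat.card Φ.range = O.ncard * 251596800 := by
    rw [← (MulAction.stabilizer Φ.range a).card_mul_index, MulAction.index_stabilizer, mul_comm,
      Nat.card_congr ((MulAction.stabilizer Φ.range a).equivMapOfInjective _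
        Φ.range.subtype_injective).toEquiv, hst,
      ← Nat.card_congr (MonoidHom.ofInjective hψ).toEquiv, card_PG]
  have hdvd : O.ncard ∣ 1782 := by
    have h := Φ.range.card_subgroup_dvd_card
    rw [hM, hcardG] at h
    exact Nat.dvd_of_mul_dvd_mul_right (by norm_num) h
  have hall : O.ncard = 1782 := by
    by_cases h : ∃ i, f i ∈ O
    · obtain ⟨i, hi⟩ := h
      have hsub : insert a (Set.range f) ⊆ O := by
        rintro d (rfl | ⟨j, rfl⟩)
        · exact haO
        obtain ⟨x, hx⟩ := AP.transitive i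
        obtain ⟨y, hy⟩ := AP.transitive j
        have hj : πP (y * x⁻¹) i = j := by
          rw [map_mul, Equiv.Perm.mul_apply, map_inv, Equiv.Perm.inv_def,
            (Equiv.symm_apply_eq _).2 hx.symm, hy]
        rw [← hj, S.map]
        exact hinv _ _ hi
      have hn : 1366 ≤ O.ncard := by
        refine le_trans (le_of_eq ?_) (Set.ncard_le_ncard hsub)
        rw [Set.ncard_insert_of_notMem (by rintro ⟨j, hj⟩; exact S.off j hj),
          Set.ncard_range_of_injective S.finj, Nat.card_fin]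
      obtain ⟨k, hk⟩ := hdvd
      rcases k with _ | _ | k
      · omega
      · omega
      · nlinarith
    · exfalso
      have hga' : g • a ∈ {w | ∃ x, ψ x • b = w} := by
        rcases hcover (g • a) with e | e | ⟨i, hi⟩
        · exact absurd e hga
        · exact e
        · exact absurd ⟨i, hi.symm ▸ hgaO⟩ h
      have hlow : {w | ∃ x, ψ x • b = w} ⊆ O := by
        obtain ⟨x, hx⟩ := hga'
        rintro _ ⟨y, rfl⟩
        have hb' : b = ψ x⁻¹ • g • a := by rw [← hx, map_inv, inv_smul_smul]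
        rw [hb', ← mul_smul, ← map_mul]
        exact hinv _ _ hgaO
      have hup : O ⊆ insert a {w | ∃ x, ψ x • b = w} := by
        intro d hd
        rcases hcover d with e | e | ⟨i, hi⟩
        · exact Or.inl e
        · exact Or.inr e
        · exact absurd ⟨i, hi.symm ▸ hd⟩ h
      have h1 := Set.ncard_le_ncard hlow
      have h2 := (Set.ncard_le_ncard hup).trans (Set.ncard_insert_le _ _)
      rw [hb] at h1 h2
      obtain ⟨k, hk⟩ := hdvd
      rcases le_or_gt k 4 with hk' | hk' <;> nlinarith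
  have hsurj : Function.Surjective Φ := by
    refine MonoidHom.range_eq_top.1 (Subgroup.eq_top_of_card_eq _ ?_)
    rw [hM, hall, hcardG]
  have hSuz : Nat.card Cfsg.Spor.Suz = 448345497600 := Cfsg.Agent.S1694.result.2
  haveI : Finite Cfsg.Spor.Suz := Nat.finite_of_card_ne_zero (by rw [hSuz]; norm_num)
  exact ⟨(MulEquiv.ofBijective Φ
    ((Nat.bijective_iff_surjective_and_card Φ).2 ⟨hsurj, by rw [hSuz, hcardG]⟩)).symm⟩

end Cfsg.Agent.Lib.SuzRank51
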