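import Cfsg.Agent.Lib.CosetEnum.Restrict
import Cfsg.Agent.Lib.CosetEnum.SuzSub.Pres

/-!
Actions of `G2(4)`, presented on `a, …, f`, on 1365 points, and their certificates: the shape of the
data and the checks run on it.

Points: `0` is the base point, `[1, 21)`, `[21, 341)` and `[341, 1365)` are the orbits of its stabiliser,
`341` is the marked point of the long orbit.  Owner: helper51.
-/

set_option autoImplicit false

namespace Cfsg.Agent.Lib.SuzRank51

open Cfsg.Agent.Lib.CosetEnum

/-- a class of automorphisms of the two-point stabiliser -/
structure Cls where
  /-- image of the first generator -/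
  a : ℕ
  /-- image of the second generator -/
  c : ℕ
  /-- possible images of the third point, with words leading to them from the marked one -/
  js : List (ℕ × List ℕ)
  /-- elements centralising both images -/
  zs : List ℕ
  /-- whether the class extends to the stabiliser of the base point -/
  sv : Bool
  /-- image of the third generator -/
  im3 : List ℕ
  /-- the twisted permutation of the long orbit -/
  S : PTree
  /-- witnesses against the class -/
  zl : List ℕ

/-- the data of one action -/
structure Case where
  /-- the six generators -/
  T : PTree
  /-- a word from `0` to `1` -/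
  root1 : List ℕ
  /-- a word from `0` to `21` -/
  root21 : List ℕ
  /-- three generators of the stabiliser of `0` -/
  words : List (List ℕ)
  /-- their table -/
  Y : PTree
  /-- parents inside the three orbits -/
  R : PTree
  /-- the stabiliser of `0` and `341` as words in the first two generators -/
  tw : List (List ℕ)
  /-- a point in a regular orbit of that group -/
  b : ℕ
  /-- images of `b` -/
  TB : PTree
  /-- positions of the images of `b` -/
  pos : PTree
  /-- the multiplication table -/
  MT : PTree
  /-- inverses -/
  inv : PTree
  /-- index of the first generator -/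
  i1 : ℕ
  /-- index of the second generator -/
  i2 : ℕ
  /-- relations between the first two generators -/
  rels : List (List ℕ)
  /-- words which are not trivial -/
  neq : List (List ℕ)
  /-- indices fixing the image of `341` under the third generator -/
  st : List ℕ
  /-- relations between the three generators -/
  urels : List (List ℕ × List ℕ)
  /-- a word exchanging `0` and `341` -/
  hw : List ℕ
  /-- the classes -/
  cls : List Cls

/-- `g2(4)` as presented on six generators -/
abbrev PG : Type := PresentedGroup SuzSub.pres

/-- product of the letters of a word -/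
noncomputable def hel (w : List ℕ) : PG := ((w.map (SuzSub.letters.phi SuzSub.pres)).prod)⁻¹

theorem hel_append (v w : List ℕ) : hel (v ++ w) = hel w * hel v := by
  rw [hel, hel, hel, List.map_append, List.prod_append, mul_inv_rev]

namespace Case

variable (C : Case)

/-- point image under a word in the six generators -/
noncomputable def act (w : List ℕ) (i : ℕ) : ℕ := scan 6 C.T w i

/-- point image under a word in the three generators of the stabiliser -/
noncomputable def loc (w : List ℕ) (i : ℕ) : ℕ := scan 3 C.Y w i

/-- the word in six generators of a word in three -/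
def expand (w : List ℕ) : List ℕ := w.flatMap fun k => C.words.getD k []

/-- the element of a word in the three generators -/
noncomputable def el (w : List ℕ) : PG := hel (C.expand w)

theorem el_append (v w : List ℕ) : C.el (v ++ w) = C.el w * C.el v := by
  rw [el, el, el, expand, List.flatMap_append, hel_append]; rfl

/-- product in the table -/
noncomputable def mul (k l : ℕ) : ℕ := get32 C.MT (k * 180 + l)

/-- an element of the two-point stabiliser -/
noncomputable def te (k : ℕ) : List ℕ := C.tw.getD k []

/-- value of a word at two indices -/
noncomputable def evT (a c : ℕ) (w : List ℕ) : ℕ :=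
  w.foldl (fun acc k => C.mul (if k = 0 then a else c) acc) 0

/-- substitution of images into a word in the three generators -/
def subst (v1 v2 v3 : List ℕ) (w : List ℕ) : List ℕ :=
  w.flatMap fun k => [v1, v2, v3].getD k []

/-- class of a point -/
def zone (i : ℕ) : ℕ := if i = 0 then 0 else if i < 21 then 1 else if i < 341 then 2 else 3

/-- letters, relations and columns of the table -/
noncomputable def tableCheck : Bool :=
  permOK SuzSub.letters.K SuzSub.letters.IV 1365 C.T && relsOK SuzSub.letters.K 1365 C.T SuzSub.letters.RL

/-- the three generators, the orbits and their connectivity -/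
noncomputable def orbitCheck : Bool :=
  (C.words.all fun w => w.all fun g => g < 6) && decide (C.words.length = 3) &&
  (allBelow 1365 fun i => allBelow 3 fun k =>
    get32 C.Y (i * 3 + k) == C.act (C.words.getD k []) i && zone (get32 C.Y (i * 3 + k)) == zone i) &&
  (allBelow 1365 fun i => i == 0 || i == 1 || i == 21 || i == 341 ||
    (decide (get32 C.R (2 * i) < i) && decide (get32 C.R (2 * i + 1) < 3) &&
      get32 C.Y (get32 C.R (2 * i) * 3 + get32 C.R (2 * i + 1)) == i && zone (get32 C.R (2 * i)) == zone i)) &&
  (C.root1.all fun g => g < 6) && (C.root21.all fun g => g < 6) && (C.hw.all fun g => g < 6) &&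
  C.act C.root1 0 == 1 && C.act C.root21 0 == 21 && C.act C.hw 0 == 341 && C.act C.hw 341 == 0

/-- the elements of the two-point stabiliser and their table -/
noncomputable def pointCheck : Bool :=
  decide (341 ≤ C.b) && decide (C.b < 1365) && C.te 0 == [] && decide (C.i1 < 180) && decide (C.i2 < 180) &&
  C.loc [0] 341 == 341 && C.loc [1] 341 == 341 && C.loc [0] C.b == get32 C.TB C.i1 &&
  C.loc [1] C.b == get32 C.TB C.i2 &&
  (allBelow 180 fun k => ((C.te k).all fun x => x < 2) && C.loc (C.te k) 341 == 341 &&
    C.loc (C.te k) C.b == get32 C.TB k && get32 C.pos (get32 C.TB k) == k &&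
    decide (get32 C.inv k < 180) && C.mul k (get32 C.inv k) == 0)

/-- the multiplication table -/
noncomputable def mulCheck : Bool :=
  allBelow 180 fun k => allBelow 180 fun l =>
    decide (C.mul k l < 180) && C.loc (C.te k) (get32 C.TB l) == get32 C.TB (C.mul k l)

/-- relations at the generators -/
noncomputable def relCheck : Bool :=
  (C.rels.all fun w => (w.all fun x => x < 2) && C.evT C.i1 C.i2 w == 0) &&
  (C.neq.all fun w => (w.all fun x => x < 2) && !(C.evT C.i1 C.i2 w == 0)) &&
  (C.st.all fun s => decide (s < 180) && C.loc (C.te s) (C.loc [2] 341) == C.loc [2] 341) &&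
  (C.urels.all fun p => (p.1.all fun x => x < 3) && (p.2.all fun x => x < 3) &&
    C.loc p.1 341 == C.loc p.2 341 && C.loc p.1 C.b == C.loc p.2 C.b) &&
  !(C.loc [2] 341 == 341)

/-- every admissible pair of images is conjugate to a listed one -/
noncomputable def pairCheck : Bool :=
  allBelow 180 fun a => allBelow 180 fun c =>
    !((C.rels.all fun w => C.evT a c w == 0) && (C.neq.all fun w => !(C.evT a c w == 0))) ||
      (List.range 180).any fun t => C.cls.any fun K =>
        C.mul (C.mul t a) (get32 C.inv t) == K.a && C.mul (C.mul t c) (get32 C.inv t) == K.c

/-- every admissible image of the third generator is conjugate to the listed one -/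
noncomputable def thirdCheck (K : Cls) : Bool :=
  decide (K.a < 180) && decide (K.c < 180) &&
  (K.zs.all fun z => decide (z < 180) && C.mul z K.a == C.mul K.a z && C.mul z K.c == C.mul K.c z) &&
  (K.im3.all fun x => x < 3) &&
  (allBelow 1365 fun j => decide (j < 342) ||
    !(C.st.all fun s => C.loc (C.te (C.evT K.a K.c (C.te s))) j == j) || K.js.any fun p => p.1 == j) &&
  (K.js.all fun p => (p.2.all fun x => x < 3) && C.loc p.2 341 == p.1 &&
    allBelow 180 fun k =>
      !(C.urels.all fun r =>
        C.loc (subst (C.te K.a) (C.te K.c) (C.te k ++ p.2) r.1) 341 ==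
          C.loc (subst (C.te K.a) (C.te K.c) (C.te k ++ p.2) r.2) 341 &&
        C.loc (subst (C.te K.a) (C.te K.c) (C.te k ++ p.2) r.1) C.b ==
          C.loc (subst (C.te K.a) (C.te K.c) (C.te k ++ p.2) r.2) C.b) ||
      (K.sv && K.zs.any fun z =>
        C.loc (C.te k ++ p.2) 341 == C.loc (C.te (get32 C.inv z) ++ K.im3 ++ C.te z) 341 &&
        C.loc (C.te k ++ p.2) C.b == C.loc (C.te (get32 C.inv z) ++ K.im3 ++ C.te z) C.b))

/-- the twisted permutation -/
noncomputable def twistCheck (K : Cls) : Bool :=
  !K.sv || (get32 K.S 341 == 341 && allBelow 1365 fun i => decide (i < 341) ||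
    allBelow 3 fun k => get32 K.S (get32 C.Y (i * 3 + k)) ==
      C.loc ([C.te K.a, C.te K.c, K.im3].getD k []) (get32 K.S i))

/-- one step of the swap: `1365` is the fixed point of the big group, `1366` is unknown -/
noncomputable def swapStep (S : PTree) (p : ℕ) : ℕ :=
  if p = 1365 then 0 else if p = 0 then 1365 else if 341 ≤ p ∧ p < 1365 then get32 S p else 1366

/-- a generator step -/
noncomputable def actStep (w : List ℕ) (p : ℕ) : ℕ := if p < 1365 then C.act w p else p

/-- the chain used against a class -/
noncomputable def chain (S : PTree) (p : ℕ) : ℕ :=
  swapStep S (C.actStep C.hw (swapStep S (C.actStep C.hw (swapStep S p))))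

/-- the class cannot occur -/
noncomputable def badCheck (K : Cls) : Bool :=
  !K.sv || (C.chain K.S 1365 == 1365 && C.chain K.S 0 == 341 && C.chain K.S 341 == 0 &&
    (K.zl.all fun z => decide (z < 1365)) &&
    allBelow 180 fun k => K.zl.any fun z =>
      decide (C.chain K.S z < 1365) && !(C.act C.hw (C.chain K.S z) == C.loc (C.te k) z))

end Case

end Cfsg.Agent.Lib.SuzRank51
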