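import Cfsg.Agent.Lib.SuzRank51.Group

/-!
The swap of the base point with a point of the suborbit of length 1365, normalised by the certificate.
Owner: helper51.
-/

set_option autoImplicit false
set_option maxRecDepth 20000

namespace Cfsg.Agent.Lib.SuzRank51

open Cfsg.Agent.Lib.CosetEnum

variable {C : Case} {π : PG →* Equiv.Perm (Fin 1365)} {G Ω : Type*} [Group G] [MulAction G Ω]

/-- `G2(4)` as the stabiliser of `a`, its suborbit on 1365 points, and an element swapping `a` with the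
base point of the suborbit -/
structure Setup (A : Act C π) (ψ : PG →* G) (a : Ω) (f : Fin 1365 → Ω) (s : G) : Prop where
  ψinj : Function.Injective ψ
  fix : ∀ g : G, g • a = a ↔ g ∈ ψ.range
  finj : Function.Injective f
  off : ∀ i, f i ≠ a
  map : ∀ x i, f (π x i) = ψ x • f i
  sa : s • a = f 0
  s0 : s • f 0 = a
  card : Nat.card Ω = 1782

/-- conjugation by the swap, read in `G2(4)` -/
def Twin (ψ : PG →* G) (s : G) (x y : PG) : Prop := s * ψ x * s⁻¹ = ψ y

theorem Twin.mul {ψ : PG →* G} {s : G} {x y x' y' : PG} (h : Twin ψ s x y) (h' : Twin ψ s x' y') :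
    Twin ψ s (x * x') (y * y') := by
  unfold Twin at *
  rw [map_mul, map_mul, ← h, ← h']
  group

theorem Twin.one {ψ : PG →* G} {s : G} : Twin ψ s 1 1 := by simp [Twin]

theorem Twin.conj {ψ : PG →* G} {s : G} {x y : PG} (h : Twin ψ s x y) (w : PG) :
    Twin ψ (ψ w * s) x (w * y * w⁻¹) := by
  unfold Twin at *
  rw [map_mul, map_mul, map_inv, ← h]
  group

namespace Setup

variable {A : Act C π} {ψ : PG →* G} {a : Ω} {f : Fin 1365 → Ω} {s : G} (S : Setup A ψ a f s)
include S

theorem twin_eq {x y y' : PG} (h : Twin ψ s x y) (h' : Twin ψ s x y') : y = y' :=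
  S.ψinj (h.symm.trans h')

theorem fix_a (x : PG) : ψ x • a = a := (S.fix _).2 ⟨x, rfl⟩

theorem exists_of_fix {g : G} (hg : g • a = a) : ∃ x, ψ x = g := (S.fix g).1 hg

theorem fix_base {x : PG} (hx : π x 0 = 0) : ψ x • f 0 = f 0 := by rw [← S.map, hx]

theorem stab_of_fix {x : PG} (hx : ψ x • f 0 = f 0) : π x 0 = 0 := S.finj (by rw [S.map]; exact hx)

theorem inv_base : s⁻¹ • f 0 = a := by rw [inv_smul_eq_iff]; exact S.sa.symm

theorem inv_a : s⁻¹ • a = f 0 := by rw [inv_smul_eq_iff]; exact S.s0.symm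

theorem exists_twin {x : PG} (hx : π x 0 = 0) : ∃ y, π y 0 = 0 ∧ Twin ψ s x y := by
  have h1 : (s * ψ x * s⁻¹) • a = a := by rw [mul_smul, mul_smul, S.inv_a, S.fix_base hx, S.s0]
  obtain ⟨y, hy⟩ := S.exists_of_fix h1
  refine ⟨y, S.stab_of_fix ?_, hy.symm⟩
  rw [hy, mul_smul, mul_smul, S.inv_base, S.fix_a, S.sa]

theorem twin_smul {x y : PG} (h : Twin ψ s x y) (z : Ω) : s • ψ x • z = ψ y • s • z := by
  rw [← h, mul_smul, mul_smul, inv_smul_smul]

theorem conj {w : PG} (hw : π w 0 = 0) : Setup A ψ a f (ψ w * s) where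
  ψinj := S.ψinj
  fix := S.fix
  finj := S.finj
  off := S.off
  map := S.map
  sa := by rw [mul_smul, S.sa, S.fix_base hw]
  s0 := by rw [mul_smul, S.s0, S.fix_a]
  card := S.card

/-- the swap preserves the long orbit -/
theorem long {i : Fin 1365} (hi : 341 ≤ i.1) : ∃ j : Fin 1365, 341 ≤ j.1 ∧ s • f i = f j := by
  have hfin : Finite Ω := Nat.finite_of_card_ne_zero (by rw [S.card]; norm_num)
  -- the images of the long orbit form one orbit of the stabiliser of the pair
  let I : Set Ω := {z | ∃ y, π y 0 = 0 ∧ ψ y • s • f i = z}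
  have hI : (fun j => s • f j) '' {j : Fin 1365 | 341 ≤ j.1} ⊆ I := by
    rintro _ ⟨j, hj, rfl⟩
    obtain ⟨x, hx, r, hr, hz, hxr⟩ := A.reach j (by have : 341 ≤ j.1 := hj; omega)
    obtain ⟨x', hx', r', hr', hz', hxr'⟩ := A.reach i (by omega)
    have hlong : ∀ {k r : Fin 1365}, 341 ≤ k.1 → (r.1 = 1 ∨ r.1 = 21 ∨ r.1 = 341) →
        Case.zone r.1 = Case.zone k.1 → r.1 = 341 := fun {k r} hk hr hz => by
      simp only [Case.zone, show k.1 ≠ 0 by omega, show ¬ k.1 < 21 by omega, show ¬ k.1 < 341 by omega,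
        if_false] at hz
      rcases hr with e | e | e
      · simp [e] at hz
      · simp [e] at hz
      · exact e
    have hrr : r = r' := Fin.ext (by rw [hlong hj hr hz, hlong hi hr' hz'])
    obtain ⟨y, hy, hty⟩ := S.exists_twin (x := x * x'⁻¹) (by
      have := (pstab π 0).mul_mem (A.W_le hx) ((pstab π 0).inv_mem (A.W_le hx'))
      exact this)
    refine ⟨y, hy, ?_⟩
    rw [← S.twin_smul hty, ← S.map]
    congr 2
    rw [map_mul, Equiv.Perm.mul_apply, map_inv, Equiv.Perm.inv_def]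
    rw [show (π x').symm i = r' from (Equiv.symm_apply_eq _).2 hxr'.symm, ← hrr, hxr]
  have hcard : 1024 ≤ I.ncard := by
    refine le_trans (le_of_eq ?_) (Set.ncard_le_ncard hI)
    rw [Set.ncard_image_of_injective _ (f := fun j => s • f j) (fun x y h => S.finj (MulAction.injective s h)),
      show {i : Fin 1365 | 341 ≤ i.1} = Set.range fun j : Fin 1024 => (⟨341 + j.1, by omega⟩ : Fin 1365) from
      Set.ext fun i => ⟨fun hi => ⟨⟨i.1 - 341, by omega⟩, Fin.ext (by
        have : 341 ≤ i.1 := hi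
        show 341 + (i.1 - 341) = i.1
        omega)⟩, by rintro ⟨j, rfl⟩; exact Nat.le_add_right _ _⟩,
      ← Set.image_univ, Set.ncard_image_of_injective _ (fun a b h => Fin.ext (by simpa using h)),
      Set.ncard_univ, Nat.card_fin]
  have hbig : ∀ (T : Set Ω), I ⊆ T → T.ncard < 1024 → False := fun T hT hlt => by
    have := Set.ncard_le_ncard hT
    omega
  by_cases ha : s • f i = a
  · have h0 : f i = f 0 := by rw [← S.s0] at ha; exact MulAction.injective s ha
    rw [S.finj h0] at hi; simp at hi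
  by_cases hr : s • f i ∈ Set.range f
  · obtain ⟨j, hj⟩ := hr
    refine ⟨j, ?_, hj.symm⟩
    by_contra hlt
    push Not at hlt
    refine hbig (f '' {k | k.1 < 341}) ?_ ?_
    · rintro _ ⟨y, hy, rfl⟩
      refine ⟨π y j, ?_, by rw [S.map, hj]⟩
      have hz := A.zone_W (show y ∈ A.W by rw [A.W_stab.1]; exact hy) j
      show (π y j).1 < 341
      generalize (π y j).1 = m at hz ⊢
      by_contra hm
      simp only [Case.zone, show m ≠ 0 by omega, show ¬ m < 21 by omega, if_false, hm] at hz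
      split_ifs at hz
      all_goals omega
    · rw [Set.ncard_image_of_injective _ S.finj,
        show {k : Fin 1365 | k.1 < 341} = Set.range (fun j : Fin 341 => (⟨j.1, by omega⟩ : Fin 1365)) from
        Set.ext fun k => ⟨fun hk => ⟨⟨k.1, hk⟩, rfl⟩, by rintro ⟨j, rfl⟩; exact j.2⟩,
        ← Set.image_univ, Set.ncard_image_of_injective _ (fun a b h => Fin.ext (by simpa using h)),
        Set.ncard_univ, Nat.card_fin]
      norm_num
  · exfalso
    refine hbig (insert a (Set.range f))ᶜ ?_ ?_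
    · rintro _ ⟨y, hy, rfl⟩ hmem
      rcases hmem with h | ⟨k, hk⟩
      · exact ha (MulAction.injective (ψ y) (h.trans (S.fix_a y).symm))
      · refine hr ⟨π y⁻¹ k, ?_⟩
        rw [S.map, hk, ← mul_smul, ← map_mul, inv_mul_cancel, map_one, one_smul]
    · rw [Set.ncard_compl, S.card, Set.ncard_insert_of_notMem (show a ∉ Set.range f by rintro ⟨k, hk⟩; exact S.off k hk),
        Set.ncard_range_of_injective S.finj, Nat.card_fin]
      norm_num

/-- the swap can be taken to fix the marked point -/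
theorem exists_fix_q : ∃ s', Setup A ψ a f s' ∧ s' • f A.q = f A.q := by
  obtain ⟨j, hj, hjq⟩ := S.long (i := A.q) (le_refl 341)
  obtain ⟨x, hx, r, hr, hz, hxr⟩ := A.reach j (by omega)
  have hrq : r = A.q := Fin.ext (by
    simp only [Case.zone, show j.1 ≠ 0 by omega, show ¬ j.1 < 21 by omega, show ¬ j.1 < 341 by omega,
      if_false] at hz
    rcases hr with e | e | e
    · simp [e] at hz
    · simp [e] at hz
    · exact e)
  refine ⟨ψ x⁻¹ * s, S.conj ((pstab π 0).inv_mem (A.W_le hx)), ?_⟩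
  rw [mul_smul, hjq, ← hxr, hrq, S.map, ← mul_smul, ← map_mul, inv_mul_cancel, map_one, one_smul]

variable (hq : s • f A.q = f A.q)
include hq

theorem twin_q {x y : PG} (h : Twin ψ s x y) (hx : π x A.q = A.q) : π y A.q = A.q := S.finj (by
  calc f (π y A.q) = ψ y • f A.q := S.map y A.q
    _ = s • ψ x • f A.q := by rw [S.twin_smul h, hq]
    _ = f A.q := by rw [← S.map, hx, hq])

theorem twin_t {k : ℕ} (hk : k < 180) : ∃ l < 180, Twin ψ s (A.t k) (A.t l) := by
  obtain ⟨y, hy, hty⟩ := S.exists_twin (A.W_le (A.t_mem hk))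
  obtain ⟨l, hl, rfl⟩ := A.W_stab.2 y hy (S.twin_q hq hty (A.t_q hk))
  exact ⟨l, hl, hty⟩

omit hq in
/-- twins of words -/
theorem twin_word {v1 v2 v3 : List ℕ} (n : ℕ) (h1 : Twin ψ s (C.el [0]) (C.el v1))
    (h2 : Twin ψ s (C.el [1]) (C.el v2)) (h3 : n ≤ 2 ∨ Twin ψ s (C.el [2]) (C.el v3)) (hn : n ≤ 3) :
    ∀ w : List ℕ, (∀ k ∈ w, k < n) → Twin ψ s (C.el w) (C.el (Case.subst v1 v2 v3 w)) := by
  intro w
  induction w with
  | nil => intro _; rw [A.el_nil]; show Twin ψ s 1 (C.el []); rw [A.el_nil]; exact Twin.one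
  | cons k w ih =>
    intro hw
    rw [A.el_cons, Case.subst, List.flatMap_cons, C.el_append]
    refine (ih fun x hx => hw x (List.mem_cons_of_mem _ hx)).mul ?_
    have hk : k < n := hw k List.mem_cons_self
    have hk3 : k < 3 := by omega
    interval_cases k
    · exact h1
    · exact h2
    · exact h3.resolve_left (by omega)

end Setup

/-- a normalised swap of the class `K` -/
structure Normal (A : Act C π) (K : Cls) (ψ : PG →* G) (a : Ω) (f : Fin 1365 → Ω) (s : G) : Prop where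
  setup : Setup A ψ a f s
  fq : s • f A.q = f A.q
  ha : K.a < 180
  hc : K.c < 180
  him : ∀ x ∈ K.im3, x < 3
  t1 : Twin ψ s (C.el [0]) (C.el (C.te K.a))
  t2 : Twin ψ s (C.el [1]) (C.el (C.te K.c))
  t3 : Twin ψ s (C.el [2]) (C.el K.im3)

/-- the checks on the classes -/
structure Classes (C : Case) : Prop where
  pair : C.pairCheck = true
  third : ∀ K ∈ C.cls, C.thirdCheck K = true
  twist : ∀ K ∈ C.cls, C.twistCheck K = true

theorem Setup.exists_normal {A : Act C π} {ψ : PG →* G} {a : Ω} {f : Fin 1365 → Ω} {s : G}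
    (S : Setup A ψ a f s) (hC : Classes C) :
    ∃ K ∈ C.cls, K.sv = true ∧ ∃ s', Normal A K ψ a f s' := by
  obtain ⟨s, S, hq⟩ := S.exists_fix_q
  have hrel := A.ok.rel
  simp only [Case.relCheck, Bool.and_eq_true, List.all_eq_true, decide_eq_true_eq, beq_iff_eq,
    Bool.not_eq_true', beq_eq_false_iff_ne] at hrel
  obtain ⟨⟨⟨⟨hrels, hneq⟩, hst⟩, hurels⟩, hr⟩ := hrel
  -- the first two generators
  obtain ⟨⟨e1, i1lt⟩, e2, i2lt⟩ := And.intro (A.el_gen (k := 0) (by norm_num)) (A.el_gen (k := 1) (by norm_num))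
  simp only [if_pos] at e1 i1lt
  simp only [one_ne_zero, if_false] at e2 i2lt
  obtain ⟨k1, hk1, T1⟩ := S.twin_t hq i1lt
  obtain ⟨k2, hk2, T2⟩ := S.twin_t hq i2lt
  rw [← e1] at T1
  rw [← e2] at T2
  have himg : ∀ w : List ℕ, (∀ k ∈ w, k < 2) → C.evT k1 k2 w < 180 ∧
      Twin ψ s (A.t (C.evT C.i1 C.i2 w)) (A.t (C.evT k1 k2 w)) := fun w hw => by
    obtain ⟨h1, h2⟩ := A.evT_spec i1lt i2lt [] w hw
    obtain ⟨h3, h4⟩ := A.evT_spec hk1 hk2 [] w hw
    refine ⟨h3, ?_⟩
    rw [h4, h2]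
    have e : C.el w = C.el (Case.subst (C.te C.i1) (C.te C.i2) [] w) := by
      clear h1 h2 h3 h4
      induction w with
      | nil => rfl
      | cons k w ih =>
        rw [A.el_cons, Case.subst, List.flatMap_cons, C.el_append, ih fun x hx => hw x (List.mem_cons_of_mem _ hx)]
        have hk : k < 2 := hw k List.mem_cons_self
        interval_cases k
        · exact congrArg _ e1
        · exact congrArg _ e2
    rw [← e]
    exact S.twin_word 2 T1 T2 (Or.inl le_rfl) (by norm_num) w hw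
  have hp := hC.pair
  simp only [Case.pairCheck, allBelow_iff, Bool.or_eq_true, Bool.not_eq_true', Bool.and_eq_false_iff,
    List.all_eq_false, List.any_eq_true, Bool.and_eq_true, beq_iff_eq, List.mem_range] at hp
  obtain ⟨t, ht, K, hK, hKa, hKc⟩ : ∃ t < 180, ∃ K ∈ C.cls,
      C.mul (C.mul t k1) (get32 C.inv t) = K.a ∧ C.mul (C.mul t k2) (get32 C.inv t) = K.c := by
    rcases hp k1 hk1 k2 hk2 with (⟨w, hw, h⟩ | ⟨w, hw, h⟩) | h
    · exfalso
      obtain ⟨hlt, h0⟩ := hrels w hw
      obtain ⟨h1, h2⟩ := himg w hlt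
      rw [h0, A.t_zero] at h2
      exact h (A.t_inj h1 (by norm_num) (by rw [A.t_zero]; exact S.twin_eq h2 Twin.one))
    · exfalso
      obtain ⟨hlt, h0⟩ := hneq w hw
      obtain ⟨h1, h2⟩ := himg w hlt
      simp only [Bool.not_eq_true', beq_eq_false_iff_ne, ne_eq, not_not] at h
      rw [h, A.t_zero] at h2
      have hone : ψ (A.t (C.evT C.i1 C.i2 w)) = 1 := by
        have := h2
        rw [Twin, map_one, mul_inv_eq_one, mul_eq_left] at this
        exact this
      refine h0 (A.t_inj (A.evT_spec i1lt i2lt [] w hlt).1 (by norm_num) ?_)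
      rw [A.t_zero]
      exact S.ψinj (hone.trans (map_one ψ).symm)
    · exact h
  have hth := hC.third K hK
  simp only [Case.thirdCheck, Bool.and_eq_true, allBelow_iff, List.all_eq_true, decide_eq_true_eq,
    beq_iff_eq, Bool.or_eq_true, Bool.not_eq_true', List.any_eq_true] at hth
  obtain ⟨⟨⟨⟨⟨hKa', hKc'⟩, hzs⟩, him⟩, hjs⟩, hcand⟩ := hth
  -- conjugate to the listed pair
  have hconj : ∀ k < 180, A.t (C.mul (C.mul t k) (get32 C.inv t)) = A.t t * A.t k * (A.t t)⁻¹ := fun k hk => by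
    obtain ⟨m1, m2⟩ := A.mul_spec ht hk
    obtain ⟨i1', i2'⟩ := A.inv_spec ht
    rw [← (A.mul_spec m1 i1').2, ← m2, i2']
  have T1' := T1.conj (A.t t)
  have T2' := T2.conj (A.t t)
  rw [← hconj k1 hk1, hKa] at T1'
  rw [← hconj k2 hk2, hKc] at T2'
  have S' := S.conj (A.W_le (A.t_mem ht))
  have hq' : (ψ (A.t t) * s) • f A.q = f A.q := by rw [mul_smul, hq, ← S.map, A.t_q ht]
  -- the third generator
  obtain ⟨y, hy, T3⟩ := S'.exists_twin (A.el_stab [2] (by simp))
  have hyq0 : π y A.q ≠ A.q := by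
    intro e
    refine hr ?_
    have h1 : f (π (C.el [2]) A.q) = f A.q := by
      refine MulAction.injective (ψ (A.t t) * s) ?_
      show (ψ (A.t t) * s) • f _ = (ψ (A.t t) * s) • f _
      rw [S.map, S'.twin_smul T3, hq', ← S.map, e]
    have := congrArg Fin.val (S.finj h1)
    rw [A.el_apply [2] (by simp)] at this
    exact this
  set j := π y A.q with hj
  have hjlong : 342 ≤ j.1 := by
    have hz := A.zone_W (show y ∈ A.W by rw [A.W_stab.1]; exact hy) A.q
    rw [← hj] at hz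
    have hne : j.1 ≠ 341 := fun e => hyq0 (Fin.ext e)
    simp only [Case.zone, Act.q, show ¬ (341 : ℕ) = 0 by omega, show ¬ (341 : ℕ) < 21 by omega,
      show ¬ (341 : ℕ) < 341 by omega, if_false] at hz
    split_ifs at hz
    all_goals omega
  obtain ⟨p, hp', hpj⟩ : ∃ p ∈ K.js, p.1 = j.1 := by
    rcases hjs j.1 j.2 with (h | h) | h
    · omega
    · exfalso
      rw [List.all_eq_false] at h
      obtain ⟨m, hm, h⟩ := h
      obtain ⟨hmlt, hmfix⟩ := hst m hm
      simp only [beq_iff_eq] at h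
      refine h ?_
      have hte := (A.point_spec.2.2.2.2.2.2.2.2.2 m hmlt).1
      obtain ⟨h1, h2⟩ := A.evT_spec hKa' hKc' [] (C.te m) hte
      have hT : Twin ψ (ψ (A.t t) * s) (A.t m) (A.t (C.evT K.a K.c (C.te m))) := by
        rw [h2]
        exact S'.twin_word 2 T1' T2' (Or.inl le_rfl) (by norm_num) (C.te m) hte
      rw [← A.el_apply _ (A.te_lt h1) j]
      refine congrArg Fin.val (S.finj ?_)
      show f (π (A.t _) (π y A.q)) = f (π y A.q)
      have hfix : π (A.t m) (π (C.el [2]) A.q) = π (C.el [2]) A.q := Fin.ext (by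
        rw [Act.t, A.el_apply _ (A.te_lt hmlt), A.el_apply [2] (by simp)]
        exact hmfix)
      calc f (π (A.t _) (π y A.q)) = ψ (A.t _) • ψ y • f A.q := by rw [S.map, S.map]
        _ = (ψ (A.t t) * s) • f (π (A.t m) (π (C.el [2]) A.q)) := by
            rw [S.map, S.map, S'.twin_smul hT, S'.twin_smul T3, hq']
        _ = f (π y A.q) := by rw [hfix, S.map, S'.twin_smul T3, hq', S.map]
    · exact h
  obtain ⟨⟨hp2, hp341⟩, hpk⟩ := hcand p hp'
  obtain ⟨k, hk, hky⟩ := A.W_stab.2 ((C.el p.2)⁻¹ * y) (by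
      have h0 := (pstab π 0).mul_mem ((pstab π 0).inv_mem (A.el_stab p.2 hp2)) hy
      exact h0)
    (by
      rw [map_mul, Equiv.Perm.mul_apply, map_inv, Equiv.Perm.inv_def, Equiv.symm_apply_eq]
      refine Fin.ext ?_
      rw [A.el_apply p.2 hp2]
      exact hpj.symm.trans hp341.symm)
  have hyel : y = C.el (C.te k ++ p.2) := by
    rw [C.el_append]; show y = C.el p.2 * A.t k; rw [hky, mul_inv_cancel_left]
  rw [hyel] at T3
  have hlt3 : ∀ x ∈ C.te k ++ p.2, x < 3 := fun x hx => (List.mem_append.1 hx).elim (A.te_lt hk x) (hp2 x)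
  rcases hpk k hk with h | ⟨hsv, z, hz, hzq, hzb⟩
  · exfalso
    rw [List.all_eq_false] at h
    obtain ⟨r, hr', h⟩ := h
    obtain ⟨⟨⟨hr1, hr2⟩, hrq⟩, hrb⟩ := hurels r hr'
    have hsub : ∀ w : List ℕ, (∀ x ∈ w, x < 3) →
        ∀ x ∈ Case.subst (C.te K.a) (C.te K.c) (C.te k ++ p.2) w, x < 3 := fun w hw x hx => by
      obtain ⟨i, hi, hxi⟩ := List.mem_flatMap.1 hx
      have := hw i hi
      interval_cases i
      · exact A.te_lt hKa' x hxi
      · exact A.te_lt hKc' x hxi
      · exact hlt3 x hxi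
    have heq : C.el r.1 = C.el r.2 := A.ext_two (A.el_stab _ hr1) (A.el_stab _ hr2)
      (Fin.ext (by rw [A.el_apply _ hr1, A.el_apply _ hr2]; exact hrq))
      (Fin.ext (by rw [A.el_apply _ hr1, A.el_apply _ hr2]; exact hrb))
    have h1 := S'.twin_word 3 T1' T2' (Or.inr T3) le_rfl r.1 hr1
    have h2 := S'.twin_word 3 T1' T2' (Or.inr T3) le_rfl r.2 hr2
    rw [heq] at h1
    have hy' := S'.twin_eq h1 h2
    apply h
    simp only [Bool.and_eq_true, beq_iff_eq]
    have hq1 := congrArg (fun g => (π g A.q).1) hy'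
    have hb1 := congrArg (fun g => (π g A.base).1) hy'
    simp only [A.el_apply _ (hsub _ hr1), A.el_apply _ (hsub _ hr2)] at hq1 hb1
    exact ⟨hq1, hb1⟩
  · obtain ⟨⟨hzlt, hza⟩, hzc⟩ := hzs z hz
    obtain ⟨hil, hie⟩ := A.inv_spec hzlt
    have hz3 : ∀ x ∈ C.te (get32 C.inv z) ++ K.im3 ++ C.te z, x < 3 := fun x hx => by
      simp only [List.mem_append] at hx
      rcases hx with (h | h) | h
      exacts [A.te_lt hil x h, him x h, A.te_lt hzlt x h]
    have hye : C.el (C.te k ++ p.2) = A.t z * C.el K.im3 * (A.t z)⁻¹ := by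
      rw [← hie, show A.t z * C.el K.im3 * A.t (get32 C.inv z) = C.el (C.te (get32 C.inv z) ++ K.im3 ++ C.te z) by
        rw [C.el_append, C.el_append, mul_assoc]; rfl]
      exact A.ext_two (A.el_stab _ hlt3) (A.el_stab _ hz3)
        (Fin.ext (by rw [A.el_apply _ hlt3, A.el_apply _ hz3]; exact hzq))
        (Fin.ext (by rw [A.el_apply _ hlt3, A.el_apply _ hz3]; exact hzb))
    have hcomm : ∀ k < 180, C.mul z k = C.mul k z → A.t (get32 C.inv z) * A.t k * (A.t (get32 C.inv z))⁻¹ = A.t k :=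
      fun k hk e => by
        rw [hie, inv_inv, mul_assoc, ← (show A.t z * A.t k = A.t k * A.t z by
          rw [(A.mul_spec hzlt hk).2, (A.mul_spec hk hzlt).2, e]), inv_mul_cancel_left]
    refine ⟨K, hK, hsv, ψ (A.t (get32 C.inv z)) * (ψ (A.t t) * s), S'.conj (A.W_le (A.t_mem hil)), ?_,
      hKa', hKc', him, ?_, ?_, ?_⟩
    · rw [mul_smul, hq', ← S.map, A.t_q hil]
    · have := T1'.conj (A.t (get32 C.inv z))
      rwa [hcomm K.a hKa' hza] at this
    · have := T2'.conj (A.t (get32 C.inv z))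
      rwa [hcomm K.c hKc' hzc] at this
    · have := T3.conj (A.t (get32 C.inv z))
      rw [hie] at this ⊢
      rwa [hye, inv_inv, show (A.t z)⁻¹ * (A.t z * C.el K.im3 * (A.t z)⁻¹) * A.t z = C.el K.im3 by group] at this

namespace Normal

variable {A : Act C π} {K : Cls} {ψ : PG →* G} {a : Ω} {f : Fin 1365 → Ω} {s : G} (N : Normal A K ψ a f s)
include N

theorem perm (hT : C.twistCheck K = true) (hsv : K.sv = true) :
    ∀ i : Fin 1365, 341 ≤ i.1 → ∃ h : get32 K.S i.1 < 1365, s • f i = f ⟨_, h⟩ := by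
  simp only [Case.twistCheck, hsv, Bool.not_true, Bool.false_or, Bool.and_eq_true, beq_iff_eq,
    allBelow_iff, Bool.or_eq_true, decide_eq_true_eq] at hT
  obtain ⟨hS0, hS⟩ := hT
  have key : ∀ x ∈ A.W, ∀ i : Fin 1365, 341 ≤ i.1 →
      (∃ h : get32 K.S i.1 < 1365, s • f i = f ⟨_, h⟩) →
      ∃ h : get32 K.S (π x i).1 < 1365, s • f (π x i) = f ⟨_, h⟩ := by
    haveI := finite_PG
    intro x hxW
    have hx' : x ∈ Submonoid.closure {x | ∃ k < 3, C.el [k] = x} := by
      rw [← Subgroup.closure_toSubmonoid_of_finite]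
      exact hxW
    clear hxW
    induction hx' using Submonoid.closure_induction with
    | mem x hx =>
      obtain ⟨k, hk, rfl⟩ := hx
      rintro i hi ⟨h, e⟩
      have hY : (π (C.el [k]) i).1 = get32 C.Y (i.1 * 3 + k) := by
        rw [A.el_apply [k] (by simpa using hk)]
        show force (get32 C.Y (Nat.add (Nat.mul i.1 3) k)) (fun z => z) = _
        rw [force_eq]; rfl
      obtain h' | h' := hS i.1 i.2
      · omega
      have h'' := h' k hk
      have hlt : ∀ x ∈ [C.te K.a, C.te K.c, K.im3].getD k [], x < 3 := by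
        interval_cases k
        exacts [A.te_lt N.ha, A.te_lt N.hc, N.him]
      have hT' : Twin ψ s (C.el [k]) (C.el ([C.te K.a, C.te K.c, K.im3].getD k [])) := by
        interval_cases k
        exacts [N.t1, N.t2, N.t3]
      rw [hY]
      refine ⟨h'' ▸ A.loc_lt _ hlt h, ?_⟩
      rw [N.setup.map, N.setup.twin_smul hT', e, ← N.setup.map]
      refine congrArg f (Fin.ext ?_)
      rw [A.el_apply _ hlt]
      exact h''.symm
    | one =>
      intro i _ hi
      rw [map_one]; exact hi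
    | mul x y hxm hym hx hy =>
      intro i hi hh
      have hyW : y ∈ A.W :=
        (Submonoid.closure_le (S := A.W.toSubmonoid)).2 Subgroup.subset_closure hym
      rw [map_mul, Equiv.Perm.mul_apply]
      refine hx _ ?_ (hy i hi hh)
      have hz := A.zone_W hyW i
      generalize (π y i).1 = m at hz ⊢
      simp only [Case.zone, show i.1 ≠ 0 by omega, show ¬ i.1 < 21 by omega, show ¬ i.1 < 341 by omega,
        if_false] at hz
      split_ifs at hz
      all_goals omega
  intro i hi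
  obtain ⟨x, hx, r, hr, hz, hxr⟩ := A.reach i (by omega)
  have hrq : r = A.q := Fin.ext (by
    simp only [Case.zone, show i.1 ≠ 0 by omega, show ¬ i.1 < 21 by omega, show ¬ i.1 < 341 by omega,
      if_false] at hz
    rcases hr with e | e | e
    · simp [e] at hz
    · simp [e] at hz
    · exact e)
  rw [← hxr, hrq]
  refine key x hx A.q (le_refl 341) ⟨by show get32 K.S 341 < 1365; rw [hS0]; norm_num, ?_⟩
  rw [N.fq]
  exact congrArg f (Fin.ext hS0.symm)

end Normal

/-- a point of the chart with the fixed point as number `1365` -/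
def pt (a : Ω) (f : Fin 1365 → Ω) (p : ℕ) : Ω := if h : p < 1365 then f ⟨p, h⟩ else a

namespace Normal

variable {A : Act C π} {K : Cls} {ψ : PG →* G} {a : Ω} {f : Fin 1365 → Ω} {s : G} (N : Normal A K ψ a f s)
include N

theorem swap_spec (hT : C.twistCheck K = true) (hsv : K.sv = true) {p : ℕ}
    (h : Case.swapStep K.S p ≤ 1365) : p ≤ 1365 ∧ s • pt a f p = pt a f (Case.swapStep K.S p) := by
  unfold Case.swapStep at h ⊢
  split_ifs at h ⊢ with h1 h2 h3
  · subst h1
    refine ⟨le_rfl, ?_⟩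
    rw [pt, dif_neg (by norm_num), pt, dif_pos (by norm_num : 0 < 1365), N.setup.sa]; rfl
  · subst h2
    refine ⟨by norm_num, ?_⟩
    rw [pt, dif_pos (by norm_num : 0 < 1365), pt, dif_neg (by norm_num)]
    exact N.setup.s0
  · obtain ⟨hlt, e⟩ := N.perm hT hsv ⟨p, h3.2⟩ h3.1
    refine ⟨by omega, ?_⟩
    rw [pt, dif_pos h3.2, pt, dif_pos hlt, e]
  · omega

theorem act_spec {w : List ℕ} (hw : ∀ g ∈ w, g < 6) {p : ℕ} (h : C.actStep w p ≤ 1365) :
    p ≤ 1365 ∧ ψ (hel w) • pt a f p = pt a f (C.actStep w p) := by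
  unfold Case.actStep at h ⊢
  split_ifs at h ⊢ with h1
  · refine ⟨h1.le, ?_⟩
    rw [pt, dif_pos h1, pt, dif_pos (A.act_lt w hw h1), ← N.setup.map]
    exact congrArg f (Fin.ext (A.hel_apply w hw ⟨p, h1⟩))
  · exact ⟨h, by rw [pt, dif_neg h1]; exact N.setup.fix_a _⟩

theorem bad (hT : C.twistCheck K = true) (hsv : K.sv = true) (hB : C.badCheck K = true) : False := by
  simp only [Case.badCheck, hsv, Bool.not_true, Bool.false_or, Bool.and_eq_true, beq_iff_eq, allBelow_iff,
    List.all_eq_true, List.any_eq_true, decide_eq_true_eq, Bool.not_eq_true', beq_eq_false_iff_ne] at hB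
  obtain ⟨⟨⟨⟨ha', h0⟩, hq'⟩, hzl⟩, hall⟩ := hB
  obtain ⟨-, -, hhw, -, -, hw0, hwq⟩ := A.roots_spec
  let h := ψ (hel C.hw)
  have hchain : ∀ p, C.chain K.S p ≤ 1365 → (s * h * s * h * s) • pt a f p = pt a f (C.chain K.S p) := by
    intro p hp
    obtain ⟨l1, e1⟩ := N.swap_spec hT hsv hp
    obtain ⟨l2, e2⟩ := N.act_spec hhw l1
    obtain ⟨l3, e3⟩ := N.swap_spec hT hsv l2
    obtain ⟨l4, e4⟩ := N.act_spec hhw l3
    obtain ⟨-, e5⟩ := N.swap_spec hT hsv l4
    rw [mul_smul, mul_smul, mul_smul, mul_smul, e5, e4, e3, e2, e1]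
    rfl
  obtain ⟨x, hx⟩ := N.setup.exists_of_fix (g := s * h * s * h * s) (by
    have := hchain 1365 (by rw [ha'])
    rwa [ha', pt, dif_neg (by norm_num)] at this)
  have hval : ∀ p : Fin 1365, C.chain K.S p.1 < 1365 → (π x p).1 = C.chain K.S p.1 := fun p hp => by
    have := hchain p.1 hp.le
    rw [← hx, pt, dif_pos p.2, pt, dif_pos hp, ← N.setup.map] at this
    exact congrArg Fin.val (N.setup.finj this)
  obtain ⟨k, hk, hkx⟩ := A.W_stab.2 (hel C.hw * x)
    (Fin.ext (by
      rw [map_mul, Equiv.Perm.mul_apply, A.hel_apply _ hhw, hval 0 (by show C.chain K.S 0 < 1365; rw [h0]; norm_num)]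
      show C.act C.hw (C.chain K.S 0) = 0
      rw [h0]; exact hwq))
    (Fin.ext (by
      rw [map_mul, Equiv.Perm.mul_apply, A.hel_apply _ hhw,
        hval A.q (by show C.chain K.S 341 < 1365; rw [hq']; norm_num)]
      show C.act C.hw (C.chain K.S 341) = 341
      rw [hq']; exact hw0))
  obtain ⟨z, hz, hlt, hne⟩ := hall k hk
  refine hne ?_
  rw [← A.el_apply (C.te k) (A.te_lt hk) ⟨z, hzl z hz⟩]
  show _ = (π (A.t k) ⟨z, hzl z hz⟩).1
  rw [hkx, map_mul, Equiv.Perm.mul_apply, A.hel_apply _ hhw, hval _ hlt]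

end Normal

end Cfsg.Agent.Lib.SuzRank51
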